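import Cfsg.Agent.FusD.D
import Cfsg.Agent.Fus.Semi

/-! Saturated fusion systems on a Sylow `p`-subgroup of `Sp₄(q)` for odd `p`. -/

set_option autoImplicit false
set_option linter.style.haveILetI false

namespace CF.FusD

open Cfsg Cfsg.FusionSystem Subgroup CF.Fus Function

variable {K : Type*} [Field K] {f : Sy K → Sy K} {s u z : Sy K} {c : K} {E R : Subgroup (Sy K)}

theorem conj_sX (s : Sy K) (h : z ∈ sZ K) : z⁻¹ * (s * z * s⁻¹) ∈ sX K := by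
  refine ⟨?_, (conj_sZ s z).1, (conj_sZ s z).2⟩
  rw [Sy.mul_y, Sy.cj_y]; simp [h.1, h.2]

theorem conj_sX' (h : s ∈ sZ K) (z : Sy K) : z⁻¹ * (s * z * s⁻¹) ∈ sX K := by
  refine ⟨?_, (conj_sZ s z).1, (conj_sZ s z).2⟩
  rw [Sy.mul_y, Sy.cj_y]; simp [h.1, h.2]

theorem conj_sE (h : s ∈ sE c) (k : z ∈ sE c) : z⁻¹ * (s * z * s⁻¹) ∈ sX K := by
  refine ⟨?_, (conj_sZ s z).1, (conj_sZ s z).2⟩
  rw [Sy.mul_y, Sy.cj_y, Sy.cj_w]; simp [mem_sE.1 h, mem_sE.1 k]; ring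

theorem of_conj_sX (h : u⁻¹ * (s * u * s⁻¹) ∈ sX K) : s.a * u.w = u.a * s.w := by
  have := h.1
  rw [Sy.mul_y, Sy.cj_y, Sy.cj_w] at this
  simp only [Sy.inv_y, Sy.inv_a] at this
  linear_combination this

theorem eq_sA (hE : CS ⊤ E ≤ E) (h : E ≤ sA K) : E = sA K :=
  le_antisymm h fun _ hs => hE ⟨trivial, fun _ hx => sA_comm (h hx) hs⟩

variable (h2 : (2 : K) ≠ 0)
include h2

theorem cen_sX (h : ∀ s, s * z = z * s) : z ∈ sX K := by
  have a := Sy.comm_iff.1 (h ⟨0, 0, 0, 1⟩)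
  have b := Sy.comm_iff.1 (h ⟨0, 0, 1, 0⟩)
  simp only [mul_zero, one_mul, mul_one, zero_mul] at a b
  exact ⟨(mul_eq_zero.1 (show 2 * z.y = 0 by linear_combination a.1 - a.2)).resolve_left h2, a.2, b.2.symm⟩

theorem map_sX (h : PIso f ⊤ ⊤) (hz : z ∈ sX K) : f z ∈ sX K := cen_sX h2 fun s => by
  obtain ⟨t, -, rfl⟩ := h.surj (mem_top s)
  rw [← h.mul trivial trivial, ← h.mul trivial trivial, sX_comm hz]

theorem map_sZ (h : PIso f ⊤ ⊤) (hz : z ∈ sZ K) : f z ∈ sZ K := by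
  have a : ∀ s : Sy K, s.a * (f z).w = (f z).a * s.w := fun s => by
    obtain ⟨t, -, rfl⟩ := h.surj (mem_top s)
    refine of_conj_sX ?_
    rw [← h.mul.map_conj trivial trivial, ← h.mul.map_inv_mul trivial trivial]
    exact map_sX h2 h (conj_sX t hz)
  exact ⟨by simpa using a ⟨0, 0, 0, 1⟩, by simpa using (a ⟨0, 0, 1, 0⟩).symm⟩

theorem map_sA (h : PIso f ⊤ ⊤) (hu : u ∈ sA K) : f u ∈ sA K := by
  have a := sA_comm hu (sZ_le_sA (map_sZ h2 h.symm (z := ⟨0, 1, 0, 0⟩) ⟨rfl, rfl⟩))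
  have b := congrArg f a
  rw [h.mul trivial trivial, h.mul trivial trivial, h.apply_pinv trivial, Sy.comm_iff] at b
  simpa [h2, mem_sA] using b.1

variable [Finite K] {p : ℕ} [Fact p.Prime] {F : FusionSystem (⊤ : Subgroup (Sy K))} (hF : Sat F p)
  (hR : F.StronglyClosed R) (h1 : R ≤ sX K) (h0 : R ≠ ⊥)
include hF hR h1 h0

theorem ess_sX (hE : F.IsEssential p E) (hA : E ≠ sA K) : F.autGroup E ≤ stab E (sX K) := fun α hα => by
  have hZ : sX K ≤ E := fun z hz => hF.ess_centric hE ⟨trivial, fun x _ => sX_comm hz x⟩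
  refine mem_stab_of_maps hZ fun z hz => by_contra fun n => ?_
  have w1 := fn_mem α (hZ hz)
  have cm : ∀ e ∈ E, e * fn α z = fn α z * e := fun e he => by
    rw [← fn_fn_inv α e, ← mulOn_fn α (fn_mem _ he) (hZ hz), sX_comm hz, mulOn_fn α (hZ hz) (fn_mem _ he)]
  by_cases a0 : (fn α z).a = 0
  · refine hA (eq_sA (hF.ess_centric hE) fun e he => by_contra fun e0 => n ?_)
    obtain ⟨b1, b2⟩ := Sy.comm_iff.1 (cm e he)
    rw [a0] at b1 b2
    have b3 : (fn α z).w = 0 := (mul_eq_zero.1 (b2.trans (zero_mul _))).resolve_left e0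
    exact ⟨(mul_eq_zero.1 (show 2 * e.a * (fn α z).y = 0 by linear_combination b1 - e.a ^ 2 * b3)).resolve_left
      (mul_ne_zero h2 e0), b3, a0⟩
  obtain ⟨⟨r, r1⟩, r0⟩ := ne_bot_iff_exists_ne_one.1 h0
  have r2 := h1 (stab_maps (sc_stab hR le_top hα) r1)
  let t : Sy K := ⟨0, -(fn α r).x / (2 * (fn α z).a), 0, 0⟩
  have tn : t ∈ normalizer (E : Set (Sy K)) := mem_normalizer_of_le le_top fun x hx => by
    simpa using mul_mem hx (hZ (conj_sX' (s := t) ⟨rfl, rfl⟩ x))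
  have a := (hF.ess_syl hE).cj (le_normalizer hα)
  have b : ∀ u ∈ sX K, ∀ β ∈ img (cj α) (autInducedBy ⊤ E), fn β (fn α u) = fn α u := fun u hu β hβ => by
    obtain ⟨g, -, g2⟩ := mem_autInducedBy'.1 (mem_img_cj.1 hβ)
    have := congrArg (fn α) (g2 u (hZ hu))
    rwa [sX_comm hu g, mul_inv_cancel_right, ← fn_mul, ← mul_assoc, ← mul_assoc, mul_inv_cancel, one_mul,
      fn_mul] at this
  obtain ⟨k, hk⟩ := isPGroup_iff_mem.1 hF.pg t trivial
  have e : t * fn α z * t⁻¹ = fn α z * fn α r := by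
    ext <;> simp [t, r2.1, r2.2.1, r2.2.2]
    field_simp
  have d := a.fix_of_shear (fn_mem α (hZ (h1 r1))) w1 (b r (h1 r1)) (b z hz) (cA_mem_autGroup F le_top (mem_top t))
    (k := k) (by rw [← cA_pow tn, hk]; simp) ⟨by
      rw [fn_cA tn (fn_mem α (hZ (h1 r1))), sX_comm r2, mul_inv_cancel_right], 1, by rw [fn_cA tn w1, e, zpow_one]⟩
  rw [fn_cA tn w1, e, mul_eq_left, ← (mulOn_fn α).map_one] at d
  exact r0 (Subtype.ext (fn_inj α d))

theorem ess_sE (hE : F.IsEssential p E) (hA : E ≠ sA K) :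
    (∃ c, E = sE c) ∧ ∃ α ∈ F.autGroup E, ∃ y ∈ sZ K, fn α y ∉ sZ K := by
  have hZ : sX K ≤ E := fun z hz => hF.ess_centric hE ⟨trivial, fun x _ => sX_comm hz x⟩
  have st := ess_sX h2 hF hR h1 h0 hE hA
  have k : ∀ s, (∀ x ∈ E, x⁻¹ * (s * x * s⁻¹) ∈ sX K) → s ∈ E := fun s hs => hF.ess_mem₂ hE st
    ⟨trivial, mem_normalizer_of_le le_top fun x hx => by simpa using mul_mem hx (hZ (hs x hx))⟩ hs
    fun x _ hx => by rw [sX_comm hx, mul_inv_cancel_right]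
  have hY : sZ K ≤ E := fun s hs => k s fun x _ => conj_sX' hs x
  have m : ∃ α ∈ F.autGroup E, ∃ y ∈ sZ K, fn α y ∉ sZ K := by
    by_contra! n
    exact (hF.ess_lt hE).not_ge fun s hs => hF.ess_mem₃ hE st (fun α hα => mem_stab_of_maps hY (n α hα))
      ⟨hs, norm_of_sZ hY s⟩ (fun x _ => conj_sZ s x) (fun x _ hx => conj_sX s hx)
      fun x _ hx => by rw [sX_comm hx, mul_inv_cancel_right]
  refine ⟨?_, m⟩
  obtain ⟨α, hα, y, y1, y2⟩ := m
  have a : ∀ e ∈ E, e.a * (fn α y).w = (fn α y).a * e.w := fun e he => of_conj_sX (by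
    have e1 := fn_mem α⁻¹ he
    rw [← fn_fn_inv α e, ← (mulOn_fn α).map_conj e1 (hY y1), ← (mulOn_fn α).map_inv_mul (hY y1)
      (mul_mem (mul_mem e1 (hY y1)) (inv_mem e1))]
    exact stab_maps (st hα) (conj_sX _ y1))
  have a0 : (fn α y).a ≠ 0 := fun a0 => hA (eq_sA (hF.ess_centric hE) fun e he =>
    (mul_eq_zero.1 ((a e he).trans (by rw [a0, zero_mul]))).resolve_right fun w0 => y2 ⟨w0, a0⟩)
  have l : E ≤ sE ((fn α y).w / (fn α y).a) := fun e he => by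
    rw [mem_sE]; field_simp; linear_combination -a e he
  exact ⟨_, le_antisymm l fun s hs => k s fun x hx => conj_sE hs (l hx)⟩

theorem exists_tor [CharP K p] (hE : F.IsEssential p (sE c)) {l : K} (hl : l ≠ 0) : ∃ β, Mor F ⊤ β ∧
    (∀ z ∈ sX K, β z = z) ∧ (∀ u ∈ sA K, (β u).w = l ^ 2 * u.w) ∧ ∀ e ∈ sE c, β e ∈ sE c ∧ (β e).a = l⁻¹ * e.a := by
  have hA : sE c ≠ sA K := fun e => by
    have : (⟨0, 0, c, 1⟩ : Sy K) ∈ sA K := e ▸ (mul_one c).symm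
    exact one_ne_zero (mem_sA.1 this)
  have hY := sZ_le_sE c
  have hZ := sX_le.trans hY
  have st := ess_sX h2 hF hR h1 h0 hE hA
  let π : Sy K → K × K := fun e => (e.y - c * e.a ^ 2 / 2, e.a)
  have k0 : ∀ x ∈ sE c, π x = 0 ↔ x ∈ sX K := fun x hx => by
    simp only [π, Prod.mk_eq_zero, mem_sX, mem_sE.1 hx]
    exact ⟨fun h => by simpa [h.2] using h.1, fun h => by simp [h.1, h.2.2]⟩
  have hm : ∀ x ∈ sE c, ∀ y ∈ sE c, π (x * y) = π x + π y := fun x _ y hy => by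
    simp only [π, Sy.mul_y, Sy.mul_a, mem_sE.1 hy, Prod.mk_add_mk, Prod.mk.injEq, and_true]
    field_simp; ring
  have hs : ∀ v, ∃ x ∈ sE c, π x = v := fun v => ⟨⟨0, v.1 + c * v.2 ^ 2 / 2, c * v.2, v.2⟩, rfl, by simp [π]⟩
  obtain ⟨ρ, r, hρ⟩ := exists_rp (F.autGroup (sE c)) π hm hs fun α hα x hx e =>
    (k0 _ (fn_mem α hx)).2 (stab_maps (st hα) ((k0 x hx).1 e))
  have k1 : ∀ s v, ρ (cA (sE c) s) v = (v.1 + (c * s.a - s.w) * v.2, v.2) := fun s v => by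
    obtain ⟨x, hx, rfl⟩ := hs v
    rw [hρ _ (cA_mem_autGroup F le_top trivial) x hx, fn_cA (norm_of_sZ hY s) hx]
    simp only [π, Sy.cj_y, Sy.cj_a, mem_sE.1 hx, Prod.mk.injEq, and_true]; ring
  have l0 : Pl p (F.autGroup (sE c)) (autInducedBy ⊤ (sE c)) ρ := ⟨r, hF.ess_syl hE, fun t ht => by
    obtain ⟨s, -, -, rfl⟩ := mem_autInducedBy.1 ht
    exact ⟨_, k1 s⟩, fun a => ⟨cA _ ⟨0, 0, -a, 0⟩, cA_mem_autInducedBy trivial, fun v => by simp [k1]⟩⟩
  have fT : autInducedBy ⊤ (sE c) ≤ fix (sE c) (sX K) := fun t ht z hz => by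
    obtain ⟨s, -, e⟩ := mem_autInducedBy'.1 ht
    rw [e z (hZ hz), sX_comm hz, mul_inv_cancel_right]
  obtain ⟨α, hα, y, y1, y2⟩ := (ess_sE h2 hF hR h1 h0 hE hA).2
  obtain ⟨k, k2, k3, k4, k5⟩ := l0.exists_h (M := fix (sE c) (sX K))
    (fun g hg t ht => conj_mem_of_norm (stab_le_norm_fix (st hg)) (fT ht)) hα (a := y.y) (fun e => y2 (by
      rw [show (y.y, (0 : K)) = π y by simp [π, y1.2], hρ α hα y (hY y1)] at e
      exact ⟨by rw [mem_sE.1 (fn_mem α (hY y1)), show (fn α y).a = 0 from e, mul_zero], e⟩)) hl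
  have kn : k ∈ normalizer (autInducedBy ⊤ (sE c) : Set (MulAut (sE c))) := by
    refine (r.mono inf_le_left).norm_of_chn (l0.syl.mono (le_inf l0.syl.le fT) inf_le_left)
      (fun v => by rw [← Nat.cast_smul_eq_nsmul K, CharP.cast_eq_zero, zero_smul]) (fun x hx e => ?_)
      (le_refl (AddMonoidHom.snd K K).ker) (fun t ht => ?_) ⟨k2, k3⟩ (fun v hv => ?_) fun v hv => ?_
    · refine isPGroup_iff_mem.1 OpIn_isPGroup x (mem_OpIn₂ (hF.pgroup le_top) st hx.1 (fun z hz => ?_)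
        fun z _ hz => hx.2 z hz)
      have m := mul_mem (inv_mem hz) (fn_mem x hz)
      have := hm z hz _ m
      rw [mul_inv_cancel_left, ← hρ x hx.1 z hz, e, left_eq_add] at this
      exact (k0 _ m).1 this
    · obtain ⟨a, e⟩ := l0.act t ht
      exact ⟨⟨l0.syl.le ht, fT ht⟩, fun v => by simp [e, AddSubgroup.mem_prod], fun v _ => by simp [e, AddSubgroup.mem_prod],
        fun v hv => by rw [e, show v.2 = 0 from hv]; exact Prod.ext (by simp) (Eq.symm hv)⟩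
    all_goals exact (k5 v).trans (by rw [show v.2 = 0 from hv, mul_zero])
  obtain ⟨β, b1, b2⟩ := ext_top hF le_top (fun s _ => norm_of_sZ hY s) k2 kn
  have b3 : ∀ e ∈ sE c, (β e).a = l⁻¹ * e.a := fun e he => by
    have := k5 (π e)
    rwa [hρ k k2 e he, ← b2 e he] at this
  refine ⟨β, b1, fun z hz => by rw [b2 z (hZ hz), k3 z hz], fun u hu => ?_,
    fun e he => ⟨b2 e he ▸ fn_mem k he, b3 e he⟩⟩
  let e : Sy K := ⟨0, 0, c, 1⟩
  have he : e ∈ sE c := (mul_one c).symm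
  have m := conj_sZ u e
  have e1 := k4 (e⁻¹ * (u * e * u⁻¹)).y
  rw [show ((e⁻¹ * (u * e * u⁻¹)).y, (0 : K)) = π (e⁻¹ * (u * e * u⁻¹)) by simp [π], hρ k k2 _ (hY m),
    ← b2 _ (hY m), b1.mul.map_inv_mul trivial trivial, b1.mul.map_conj trivial trivial] at e1
  have e2 := congrArg Prod.fst e1
  have e3 := mem_sA.1 (map_sA h2 b1.iso_top.piso hu)
  have e4 := mem_sE.1 (b2 e he ▸ fn_mem k he : β e ∈ sE c)
  simp only [π, Sy.mul_y, Sy.mul_a, Sy.mul_w, Sy.inv_y, Sy.inv_a, Sy.inv_w, e3, e4, b3 e he, mem_sA.1 hu, e] at e2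
  field_simp at e2
  refine mul_left_cancel₀ (mul_ne_zero h2 hl) ?_
  linear_combination -e2

theorem sE_unique [CharP K p] {d : K} (hE : F.IsEssential p (sE c)) (hD : F.IsEssential p (sE d)) : c = d := by
  have k : ∀ {c}, F.IsEssential p (sE c) → ∃ β, Mor F ⊤ β ∧ ∀ s, (β s).w = s.w - 2 * c * s.a ∧ (β s).a = -s.a := by
    intro c hE
    obtain ⟨β, b1, -, b2, b3⟩ := exists_tor h2 hF hR h1 h0 hE (neg_ne_zero.2 one_ne_zero)
    refine ⟨β, b1, fun s => ?_⟩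
    let e : Sy K := ⟨0, 0, c * s.a, s.a⟩
    have hu : s * e⁻¹ ∈ sA K := by simp [mem_sA, e]
    obtain ⟨e1, e2⟩ := b3 e rfl
    rw [show β s = β (s * e⁻¹) * β e by rw [← b1.mul trivial trivial, inv_mul_cancel_right], Sy.mul_w, Sy.mul_a,
      b2 _ hu, mem_sE.1 e1, e2, mem_sA.1 (map_sA h2 b1.iso_top.piso hu)]
    simp only [e, inv_neg, inv_one, Sy.mul_w, Sy.mul_a, Sy.inv_w, Sy.inv_a]
    exact ⟨by ring, by ring⟩
  obtain ⟨β, b1, b2⟩ := k hE
  obtain ⟨γ, g1, g2⟩ := k hD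
  obtain ⟨m, m1, s, -, e⟩ := exists_pow_inn hF (b1.comp g1 fun _ _ => trivial)
  have a : ∀ (n : ℕ) (x : Sy K), ((γ ∘ β)^[n] x).w = x.w + n * (2 * (d - c)) * x.a ∧ ((γ ∘ β)^[n] x).a = x.a := by
    intro n x
    induction n with
    | zero => simp
    | succ n ih =>
      rw [iterate_succ_apply', comp_apply, (g2 _).1, (g2 _).2, (b2 _).1, (b2 _).2, ih.1, ih.2]
      exact ⟨by push_cast; ring, by ring⟩
  have b := (a m ⟨0, 0, 0, 1⟩).1
  rw [e _ trivial, Sy.cj_w] at b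
  simp only [zero_add, mul_one, zero_eq_mul, CharP.cast_eq_zero_iff K p, m1, h2, false_or, mul_eq_zero] at b
  exact (sub_eq_zero.1 b).symm

theorem not_both [CharP K p] (hE : F.IsEssential p (sE c)) (hA : F.IsEssential p (sA K)) : False := by
  obtain ⟨ρ, h, e⟩ := cub_sA hF
  obtain ⟨⟨r, r1⟩, r0⟩ := ne_bot_iff_exists_ne_one.1 h0
  have r2 := h1 r1
  refine h.odd h2 (c := pA r) (fun e => r0 (Subtype.ext (Sy.ext (congrArg Prod.fst e) r2.1 r2.2.1 r2.2.2)))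
    (ess_not_norm hF sZ_le_sA hA) (fun g hg => ?_) fun l hl => ?_
  · have := h1 (stab_maps (sc_stab hR le_top hg) r1)
    rw [e g hg r r2.2.2]
    exact Prod.ext this.1 this.2.1
  obtain ⟨β, b1, b2, b3, -⟩ := exists_tor h2 hF hR h1 h0 hE hl
  obtain ⟨α, hα, a⟩ := ((b1.mono le_top).iso_self fun x hx => map_sA h2 b1.iso_top.piso hx).exists_aut
  refine ⟨α, hα, fun z hz => ?_, fun v => ?_⟩
  · have : (⟨z.1, 0, 0, 0⟩ : Sy K) ∈ sX K := ⟨rfl, rfl, rfl⟩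
    rw [show z = pA ⟨z.1, 0, 0, 0⟩ from Prod.ext rfl hz, e α hα _ rfl, a _ rfl, b2 _ this]
  · rw [show v = pA ⟨v.1, v.2.1, v.2.2, 0⟩ from rfl, e α hα _ rfl, a _ rfl]
    exact b3 _ rfl

omit hR h1 h0 in
theorem rz_odd [CharP K p] (h0 : F.core ≠ ⊥) : Rz F p := by
  have hU := core_normal F
  by_cases h1 : F.core ≤ sX K
  swap
  · obtain ⟨u, u1, u2⟩ := SetLike.not_le_iff_exists.1 h1
    have cm : ∀ s, u⁻¹ * (s * u * s⁻¹) ∈ F.core := fun s =>
      mul_mem (inv_mem u1) (conj_mem_of_norm (normal_norm hU trivial) u1)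
    obtain ⟨r, r1, r2, r3⟩ : ∃ r ∈ F.core, r ∈ sZ K ∧ r ∉ sX K := by
      by_contra! n
      have a := fun s => of_conj_sX (n _ (cm s) (conj_sZ s u))
      exact u2 (n u u1 ⟨by simpa using a ⟨0, 0, 0, 1⟩, by simpa using (a ⟨0, 0, 1, 0⟩).symm⟩)
    have l : CS ⊤ F.core ≤ sA K := fun s hs => by
      have := (Sy.comm_iff.1 (hs.2 r r1)).1
      simp only [r2.1, r2.2, mul_zero, zero_mul, add_zero, zero_eq_mul, mul_eq_zero, h2, false_or,
        ne_eq, OfNat.ofNat_ne_zero, not_false_eq_true, zero_pow] at this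
      exact this.resolve_right fun e => r3 ⟨e, r2⟩
    exact rz_of_normal hF hU (le_core (hF.normal_of_abelian (sc_CS_of_normal hU) fun s hs t ht =>
      sA_comm (l ht) (l hs)))
  have hR := sc_of_normal hU
  by_cases a : ∃ c, F.IsEssential p (sE c)
  · obtain ⟨c, hE⟩ := a
    have k : ∀ P, F.IsEssential p P → P = sE c := fun P hP => by
      obtain ⟨d, rfl⟩ := (ess_sE h2 hF hR h1 h0 hP fun e => not_both h2 hF hR h1 h0 hE (e ▸ hP)).1
      rw [sE_unique h2 hF hR h1 h0 hP hE]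
    refine rz_of_normal hF (hF.normal_of_ess fun P hP => ?_) (hF.ess_centric hE)
    rcases hP with rfl | hP
    · refine ⟨le_top, fun α hα => (mem_stab_iff_img le_top).2 (k _ ((mor_fn le_rfl hα).fiso.ess hF hE))⟩
    · obtain rfl := k P hP
      exact ⟨le_rfl, fun α _ => mem_stab_of_maps le_rfl fun x => fn_mem α⟩
  refine rz_of_normal hF (hF.normal_of_ess fun P hP => ?_) CS_sA
  rcases hP with rfl | hP
  · exact ⟨le_top, fun α _ => mem_stab_of_maps le_top fun x => map_sA h2 (piso_fn α)⟩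
  · obtain rfl : P = sA K := by_contra fun n => a ((ess_sE h2 hF hR h1 h0 hP n).1.imp fun c (e : P = sE c) => e ▸ hP)
    exact ⟨le_rfl, fun α _ => mem_stab_of_maps le_rfl fun x => fn_mem α⟩

end CF.FusD
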