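import Cfsg.Agent.FusD.D

/-! Saturated fusion systems on a Sylow `2`-subgroup of `Sp₄(2ⁿ)`: the two elementary abelian subgroups. -/

set_option autoImplicit false
set_option linter.style.haveILetI false

namespace CF.FusD

open Cfsg Cfsg.FusionSystem Subgroup CF.Fus Function

variable {K : Type*} [Field K] {f β : Sy K → Sy K} {s t u z : Sy K} {E P Q R : Subgroup (Sy K)}

/-- the subgroup on which `w` vanishes -/
def sB (K : Type*) [Field K] : Subgroup (Sy K) := sE 0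

theorem mem_sB : s ∈ sB K ↔ s.w = 0 := by rw [sB, mem_sE, zero_mul]
theorem sZ_le_sB : sZ K ≤ sB K := sZ_le_sE 0

theorem CS_sB : CS ⊤ (sB K) ≤ sB K := fun s h => by
  simpa [mem_sB] using (Sy.comm_iff.1 (h.2 ⟨0, 0, 0, 1⟩ (mem_sB.2 rfl))).2

variable [CharP K 2]

theorem sZ_comm (h : z ∈ sZ K) (s : Sy K) : s * z = z * s := by simp [Sy.comm_iff, h.1, h.2, CharTwo.two_eq_zero]

theorem sB_comm (h : s ∈ sB K) (k : t ∈ sB K) : s * t = t * s := by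
  simp [Sy.comm_iff, mem_sB.1 h, mem_sB.1 k, CharTwo.two_eq_zero]

theorem of_sq (h : u * u = 1) : u ∈ sA K ∨ u ∈ sB K := by
  have := congrArg Sy.y h
  rw [mem_sA, mem_sB, ← mul_eq_zero]
  simpa [CharTwo.add_self_eq_zero] using this

theorem sq_sA (h : u ∈ sA K) : u * u = 1 := by ext <;> simp [mem_sA.1 h, CharTwo.add_self_eq_zero]

theorem sq_sB (h : u ∈ sB K) : u * u = 1 := by
  ext <;> simp [mem_sB.1 h, CharTwo.add_self_eq_zero, CharTwo.two_eq_zero]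

omit [CharP K 2] in
theorem comm_sA (h : u ∈ sA K) (n : u ∉ sZ K) (e : s * u = u * s) : s ∈ sA K :=
  (mul_eq_zero.1 ((Sy.comm_iff.1 e).2.trans (by rw [mem_sA.1 h, zero_mul]))).resolve_right fun w => n ⟨w, h⟩

omit [CharP K 2] in
theorem comm_sB (h : u ∈ sB K) (n : u ∉ sZ K) (e : s * u = u * s) : s ∈ sB K :=
  mem_sB.2 ((mul_eq_zero.1 ((Sy.comm_iff.1 e).2.symm.trans (by rw [mem_sB.1 h, mul_zero]))).resolve_left
    fun w => n ⟨mem_sB.1 h, w⟩)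

theorem map_sZ2 (h : PIso f ⊤ ⊤) (hz : z ∈ sZ K) : f z ∈ sZ K := by
  have a : ∀ s, s * f z = f z * s := fun s => by
    obtain ⟨t, -, rfl⟩ := h.surj (mem_top s)
    rw [← h.mul trivial trivial, ← h.mul trivial trivial, sZ_comm hz]
  exact ⟨by simpa using (Sy.comm_iff.1 (a ⟨0, 0, 0, 1⟩)).2, by simpa using (Sy.comm_iff.1 (a ⟨0, 0, 1, 0⟩)).2.symm⟩

theorem map_or (h : PIso f ⊤ ⊤) (hP : ∀ s ∈ P, ∀ t ∈ P, s * t = t * s) (hu : u ∈ P) (h1 : u * u = 1) (h2 : u ∉ sZ K) :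
    (∀ s ∈ P, f s ∈ sA K) ∨ ∀ s ∈ P, f s ∈ sB K := by
  have a : f u ∉ sZ K := fun e => h2 (h.pinv_apply (mem_top u) ▸ map_sZ2 h.symm e)
  have b : ∀ s ∈ P, f s * f u = f u * f s := fun s hs => by
    rw [← h.mul trivial trivial, ← h.mul trivial trivial, hP s hs u hu]
  exact (of_sq (u := f u) (by rw [← h.mul trivial trivial, h1, h.mul.map_one])).imp
    (fun e s hs => comm_sA e a (b s hs)) fun e s hs => comm_sB e a (b s hs)

/-- coordinates on one of the two elementary abelian subgroups -/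
structure Ch (P Q : Subgroup (Sy K)) (π : Sy K → K × K × K) (b : Sy K → K) : Prop where
  le : sZ K ≤ P
  mul : ∀ x ∈ P, ∀ y ∈ P, π (x * y) = π x + π y
  sur : ∀ w, ∃ x ∈ P, π x = w
  inj : ∀ x ∈ P, π x = 0 → x = 1
  onto : ∀ a, ∃ s ∈ Q, b s = a
  act : ∀ s, ∀ x ∈ P, π (s * x * s⁻¹) = tau (b s) (π x)
  hy : ∀ x, (π x).2.1 = x.y
  hz : ∀ x ∈ P, (π x).2.2 = 0 ↔ x ∈ sZ K

omit [CharP K 2] in
theorem ch_sA : Ch (sA K) (sB K) pA Sy.a :=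
  ⟨sZ_le_sA, fun x hx y _ => by simp [pA, mem_sA.1 hx], fun v => ⟨⟨v.1, v.2.1, v.2.2, 0⟩, rfl, rfl⟩,
    fun x hx e => by simp only [pA, Prod.mk_eq_zero] at e; ext <;> simp [e, mem_sA.1 hx],
    fun a => ⟨⟨0, 0, 0, a⟩, mem_sB.2 rfl, rfl⟩, fun s x hx => by
      simp only [pA, tau, Prod.mk.injEq, Sy.mul_x, Sy.mul_y, Sy.mul_w, Sy.mul_a, Sy.inv_x, Sy.inv_y, Sy.inv_w,
        mem_sA.1 hx]
      exact ⟨by ring, by ring, by ring⟩, fun _ => rfl, fun x hx => ⟨fun e => ⟨e, hx⟩, fun e => e.1⟩⟩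

/-- coordinates on the second abelian subgroup -/
def pB (s : Sy K) : K × K × K := (s.x ^ 2, s.y, s.a)

theorem ch_sB (h4 : ∀ a : K, a ^ 4 = a) : Ch (sB K) (sA K) pB Sy.w := by
  have two : (2 : K) = 0 := CharTwo.two_eq_zero
  refine ⟨sZ_le_sB, fun x _ y hy => by simp [pB, mem_sB.1 hy, two, CharTwo.add_sq],
    fun v => ⟨⟨v.1 ^ 2, v.2.1, 0, v.2.2⟩, mem_sB.2 rfl, by simp [pB, ← pow_mul, h4]⟩, fun x hx e => ?_,
    fun a => ⟨⟨0, 0, a, 0⟩, rfl, rfl⟩, fun s x hx => ?_, fun _ => rfl,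
    fun x hx => ⟨fun e => ⟨mem_sB.1 hx, e⟩, fun e => e.2⟩⟩
  · simp only [pB, Prod.mk_eq_zero, pow_eq_zero_iff two_ne_zero] at e
    ext <;> simp [e, mem_sB.1 hx]
  · have e : (s * x * s⁻¹).x = x.x + x.a ^ 2 * s.w := by
      simp only [Sy.mul_x, Sy.mul_y, Sy.mul_w, Sy.mul_a, Sy.inv_x, Sy.inv_y, Sy.inv_w, mem_sB.1 hx]
      linear_combination (s.a * x.y - x.a * s.y - x.a ^ 2 * s.w) * two
    simp only [pB, tau2, e, Sy.cj_y, Sy.cj_a, mem_sB.1 hx, Prod.mk.injEq, and_true]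
    exact ⟨by linear_combination x.x * x.a ^ 2 * s.w * two + s.w ^ 2 * h4 x.a, by linear_combination -x.a * s.w * two⟩

variable [Finite K] {F : FusionSystem (⊤ : Subgroup (Sy K))}

theorem ess_two (hF : Sat F 2) (hE : F.IsEssential 2 E) : E = sA K ∨ E = sB K := by
  have hC := hF.ess_centric hE
  have hZ : sZ K ≤ E := fun z hz => hC ⟨trivial, fun x _ => sZ_comm hz x⟩
  obtain ⟨α, -, z, z1, z2⟩ : ∃ α ∈ F.autGroup E, ∃ z ∈ sZ K, fn α z ∉ sZ K := by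
    by_contra! n
    exact (hF.ess_lt hE).not_ge fun s hs => hF.ess_mem₂ hE (fun α hα => mem_stab_of_maps hZ (n α hα))
      ⟨hs, norm_of_sZ hZ s⟩ (fun x _ => conj_sZ s x) fun x _ hx => by rw [sZ_comm hx, mul_inv_cancel_right]
  have cm : ∀ e ∈ E, e * fn α z = fn α z * e := fun e he => by
    rw [← fn_fn_inv α e, ← mulOn_fn α (fn_mem _ he) (hZ z1), sZ_comm z1, mulOn_fn α (hZ z1) (fn_mem _ he)]
  refine (of_sq (u := fn α z) (by rw [← mulOn_fn α (hZ z1) (hZ z1), sq_sA z1.2, (mulOn_fn α).map_one])).imp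
    (fun a => ?_) fun a => ?_
  · have l : E ≤ sA K := fun e he => comm_sA a z2 (cm e he)
    exact le_antisymm l fun _ hs => hC ⟨trivial, fun _ hx => sA_comm (l hx) hs⟩
  · have l : E ≤ sB K := fun e he => comm_sB a z2 (cm e he)
    exact le_antisymm l fun _ hs => hC ⟨trivial, fun _ hx => sB_comm (l hx) hs⟩

theorem map_two (hF : Sat F 2) (h : Mor F ⊤ β) : (∀ s ∈ sA K, β s ∈ sA K) ∧ ∀ s ∈ sB K, β s ∈ sB K := by
  have i := h.iso_top.piso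
  have a := map_or i (P := sA K) (fun _ h _ => sA_comm h) (u := ⟨0, 0, 1, 0⟩) rfl (sq_sA rfl) fun e => one_ne_zero e.1
  have b := map_or i (P := sB K) (fun _ h _ => sB_comm h) (u := ⟨0, 0, 0, 1⟩) (mem_sB.2 rfl) (sq_sB (mem_sB.2 rfl))
    fun e => one_ne_zero e.2
  have c : β ⟨0, 0, 1, 0⟩ * β ⟨0, 0, 0, 1⟩ ≠ β ⟨0, 0, 0, 1⟩ * β ⟨0, 0, 1, 0⟩ := fun e => by
    rw [← i.mul trivial trivial, ← i.mul trivial trivial] at e
    simpa using (Sy.comm_iff.1 (i.inj trivial trivial e)).2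
  rcases a with a | a <;> rcases b with b | b
  · exact absurd (sA_comm (a _ rfl) (b _ (mem_sB.2 rfl))) c
  · exact ⟨a, b⟩
  · obtain ⟨m, m1, s, -, e⟩ := exists_pow_inn hF h
    obtain ⟨k, rfl⟩ : Odd m := Nat.not_even_iff_odd.1 fun e => m1 e.two_dvd
    have d : ∀ k, β^[2 * k + 1] ⟨0, 0, 1, 0⟩ ∈ sB K := fun k => by
      induction k with
      | zero => exact a _ rfl
      | succ n ih => rw [show 2 * (n + 1) + 1 = 2 * n + 1 + 1 + 1 by ring, iterate_succ_apply', iterate_succ_apply']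
                     exact a _ (b _ ih)
    have := d k
    rw [e _ trivial, mem_sB, Sy.cj_w] at this
    exact absurd this one_ne_zero
  · exact absurd (sB_comm (a _ rfl) (b _ (mem_sB.2 rfl))) c

/-- a strongly closed central subgroup which meets the long root subgroup -/
structure Ax (F : FusionSystem (⊤ : Subgroup (Sy K))) : Prop where
  sat : Sat F 2
  ex : ∃ R, F.StronglyClosed R ∧ R ≤ sZ K ∧ ∃ r ∈ R, r ≠ 1 ∧ r.y = 0

variable {π : Sy K → K × K × K} {b : Sy K → K} {n : Sy K → Sy K}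

namespace Ch

omit [CharP K 2] in
theorem cub (h : Ch P Q π b) (hF : Ax F) : ∃ ρ c, Cub 2 (F.autGroup P) (autInducedBy ⊤ P) ρ ∧
    (∀ α ∈ F.autGroup P, ∀ x ∈ P, ρ α (π x) = π (fn α x)) ∧ c ≠ 0 ∧ c.2 = 0 ∧
      ∀ g ∈ F.autGroup P, (ρ g c).2.2 = 0 := by
  obtain ⟨ρ, h1, h2⟩ := exists_cub hF.sat h.le π h.mul h.sur h.inj b (fun a => (h.onto a).imp fun _ => And.right) h.act
  obtain ⟨R, r1, r2, r, r3, r4, r5⟩ := hF.ex
  have m := h.le (r2 r3)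
  exact ⟨ρ, π r, h1, h2, fun e => r4 (h.inj r m e), Prod.ext ((h.hy r).trans r5) ((h.hz r m).2 (r2 r3)), fun g hg => by
    rw [h2 g hg r m, h.hz _ (fn_mem g m)]; exact r2 (stab_maps (sc_stab r1 le_top hg) r3)⟩

theorem ext (h : Ch P Q π b) (hF : Ax F) (hf : Mor F P f) (h1 : ∀ x ∈ P, f x ∈ P) (h2 : ∀ x ∈ sZ K, f x ∈ sZ K) :
    ∃ g, Mor F ⊤ g ∧ ∀ x ∈ P, g x = f x := by
  obtain ⟨ρ, c, k, e, -⟩ := h.cub hF
  obtain ⟨α, hα, a⟩ := (hf.iso_self h1).exists_aut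
  obtain ⟨g, g1, g2⟩ := ext_top hF.sat le_top (fun s _ => norm_of_sZ h.le s) hα (k.norm2 hα fun v hv => by
    obtain ⟨x, hx, rfl⟩ := h.sur v
    rw [e α hα x hx, a x hx, h.hz _ (h1 x hx)]
    exact h2 x ((h.hz x hx).1 hv))
  exact ⟨g, g1, fun x hx => (g2 x hx).trans (a x hx)⟩

theorem std (h : Ch P Q π b) (hF : Ax F) (hE : F.IsEssential 2 P) : ∃ α ∈ F.autGroup P, ∃ η φ : K →+ K, ∀ x ∈ P,
    (π (fn α x)).1 + η (π (fn α x)).2.2 = (π x).1 + η (π x).2.2 ∧ (fn α x).y + φ (π (fn α x)).2.2 = (π x).2.2 ∧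
      (π (fn α x)).2.2 = x.y + φ (π x).2.2 := by
  obtain ⟨ρ, c, k, e, c0, c1, hc⟩ := h.cub hF
  obtain ⟨m, m0, m1, m2, m3⟩ := k.exists_n2 c0 c1 hc (ess_not_norm hF.sat h.le hE)
  let ι : K →+ K × K × K := (ρ m).comp (AddMonoidHom.mk' (fun y => (0, y, 0)) fun u v => by simp)
  let η := (AddMonoidHom.fst K (K × K)).comp ι
  let φ := (AddMonoidHom.fst K K).comp ((AddMonoidHom.snd K (K × K)).comp ι)
  refine ⟨m, m0, η, φ, fun x hx => ?_⟩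
  rw [← h.hy, ← h.hy, ← e m m0 x hx]
  obtain ⟨c, u, v⟩ := π x
  have a : ∀ y, ρ m (0, y, 0) = (η y, φ y, y) := fun y => Prod.ext rfl (Prod.ext rfl (m3 y))
  rw [show ((c, u, v) : K × K × K) = (c + η v, 0) + (0, u + φ v, 0) + ρ m (0, v, 0) by
    simp [a, add_assoc, CharTwo.add_self_eq_zero], map_add, map_add, m1, m2 _ rfl, a]
  simp [a, add_assoc, CharTwo.add_self_eq_zero, add_left_comm, CharTwo.add_cancel_left]

variable (h : Ch P Q π b) (hF : Ax F) (hn : Mor F P n) (h1 : ∀ x ∈ P, n x ∈ P)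
  (h2 : ∀ x ∈ P, π (n x) = ((π x).1, (π x).2.2, (π x).2.1))
include h hF hn h1 h2

theorem cub' : ∃ ρ c m, Cub 2 (F.autGroup P) (autInducedBy ⊤ P) ρ ∧
    (∀ α ∈ F.autGroup P, ∀ x ∈ P, ρ α (π x) = π (fn α x)) ∧ c ≠ 0 ∧ c.2 = 0 ∧
      (∀ g ∈ F.autGroup P, (ρ g c).2.2 = 0) ∧ m ∈ F.autGroup P ∧ (∀ v, ρ m v = (v.1, v.2.2, v.2.1)) ∧
      m ∉ normalizer (autInducedBy ⊤ P : Set (MulAut P)) := by
  obtain ⟨ρ, c, k, e, c0, c1, hc⟩ := h.cub hF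
  obtain ⟨m, m0, a⟩ := (hn.iso_self h1).exists_aut
  have m1 : ∀ v, ρ m v = (v.1, v.2.2, v.2.1) := fun v => by
    obtain ⟨x, hx, rfl⟩ := h.sur v
    rw [e m m0 x hx, a x hx, h2 x hx]
  exact ⟨ρ, c, m, k, e, c0, c1, hc, m0, m1, fun d => by simpa [m1] using k.nZ m0 d (v := (0, 1, 0)) rfl⟩

theorem map_sX (hf : Mor F P f) (h3 : ∀ x ∈ P, f x ∈ P) (hz : z ∈ sX K) : f z ∈ sX K := by
  obtain ⟨ρ, c, m, k, e, c0, c1, hc, m0, -, m2⟩ := h.cub' hF hn h1 h2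
  obtain ⟨α, hα, a⟩ := (hf.iso_self h3).exists_aut
  have z0 := h.le hz.2
  have := k.inv1 c0 c1 hc (fun d => m2 (d m0)) hα (z := π z) (Prod.ext ((h.hy z).trans hz.1) ((h.hz z z0).2 hz.2))
  rw [e α hα z z0, a z z0] at this
  exact ⟨(h.hy _).symm.trans (congrArg Prod.fst this), (h.hz _ (h3 z z0)).1 (congrArg Prod.snd this)⟩

theorem dec {α : MulAut P} (hα : α ∈ F.autGroup P) :
    (∀ z ∈ sZ K, fn α z ∈ sZ K) ∨ ∃ s ∈ Q, ∀ z ∈ sZ K, (s * fn α z * s⁻¹).y = 0 := by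
  obtain ⟨ρ, c, m, k, e, c0, c1, hc, m0, m1, -⟩ := h.cub' hF hn h1 h2
  refine (k.dec c0 c1 hc m0 m1 hα).imp (fun d z hz => ?_) fun ⟨t, ht, d⟩ => ?_
  · have := k.nZ hα d ((h.hz z (h.le hz)).2 hz)
    rwa [e α hα z (h.le hz), h.hz _ (fn_mem α (h.le hz))] at this
  · obtain ⟨a, ea⟩ := k.act t ht
    obtain ⟨s, hs, rfl⟩ := h.onto a
    refine ⟨s, hs, fun z hz => ?_⟩
    have := k.nZ (mul_mem (mul_mem m0 (k.syl.le ht)) hα) d ((h.hz z (h.le hz)).2 hz)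
    rwa [k.rp.mul3 m0 (k.syl.le ht) hα, m1, ea, e α hα z (h.le hz), ← h.act s _ (fn_mem α (h.le hz)), h.hy] at this

theorem adj (hβ : Mor F ⊤ β) (h3 : ∀ x ∈ P, β x ∈ P) : ∃ s ∈ Q, ∀ u ∈ P, u.y = 0 → (s * β u * s⁻¹).y = 0 := by
  obtain ⟨α, hα, a⟩ := ((hn.comp hβ fun _ _ => trivial).iso_self fun x hx => h3 _ (h1 x hx)).exists_aut
  have i := hβ.iso_top.piso
  refine ((h.dec hF hn h1 h2 hα).resolve_left fun d => ?_).imp fun s hs => ⟨hs.1, fun u hu u0 => ?_⟩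
  · have m : (⟨0, 1, 0, 0⟩ : Sy K) ∈ sZ K := ⟨rfl, rfl⟩
    have := map_sZ2 i.symm (d _ m)
    rw [a _ (h.le m), comp_apply, i.pinv_apply trivial, ← h.hz _ (h1 _ (h.le m)), h2 _ (h.le m), h.hy] at this
    exact one_ne_zero this
  · obtain ⟨z, hz, rfl⟩ := (hn.iso_self h1).surj hu
    have m : z ∈ sZ K := (h.hz z hz).1 (by rw [← h.hy, h2 z hz] at u0; exact u0)
    have := hs.2 z m
    rwa [a z hz] at this

theorem tor {l : K} (hl : l ≠ 0) : l ^ 3 = 1 ∧ ∃ α ∈ F.autGroup P, ∀ x ∈ P,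
    π (fn α x) = ((π x).1, l * (π x).2.1, l⁻¹ * (π x).2.2) := by
  obtain ⟨ρ, c, m, k, e, -, -, -, m0, m1, -⟩ := h.cub' hF hn h1 h2
  obtain ⟨a, α, hα, -, d⟩ := k.tor m0 m1 hl
  exact ⟨a, α, hα, fun x hx => by rw [← e α hα x hx, d]⟩

end Ch

end CF.FusD
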