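import Cfsg.Agent.FusD.F

/-! Saturated fusion systems on a Sylow `2`-subgroup of `Sp₄(q)`, `q ≤ 4`, in standard form. -/

set_option autoImplicit false
set_option linter.style.haveILetI false

namespace CF.FusD

open Cfsg Cfsg.FusionSystem Subgroup CF.Fus Function

variable {K : Type*} [Field K] {β γ : Sy K → Sy K} {s t u z : Sy K} {l m : K}

/-- the standard involution of the first abelian subgroup -/
def n1 (s : Sy K) : Sy K := ⟨s.x, s.w, s.y, 0⟩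
/-- the standard involution of the second abelian subgroup -/
def n2 (s : Sy K) : Sy K := ⟨s.x, s.a, 0, s.y⟩
/-- diagonal automorphisms -/
def dg (l m : K) (s : Sy K) : Sy K := ⟨l ^ 2 * m * s.x, l * m * s.y, m * s.w, l * s.a⟩

theorem n1_mem (s : Sy K) : n1 s ∈ sA K := rfl
theorem n2_mem (s : Sy K) : n2 s ∈ sB K := mem_sB.2 rfl

theorem dg_dg (l m l' m' : K) (s : Sy K) : dg l m (dg l' m' s) = dg (l * l') (m * m') s := by
  ext <;> simp only [dg] <;> ring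

/-- systems in standard form -/
structure Std (F : FusionSystem (⊤ : Subgroup (Sy K))) : Prop extends Ax F where
  h4 : ∀ a : K, a ^ 4 = a
  m1 : Mor F (sA K) n1
  m2 : Mor F (sB K) n2

/-- some automorphism moves an element of the long root subgroup -/
def Mv (F : FusionSystem (⊤ : Subgroup (Sy K))) : Prop := ∃ β, Mor F ⊤ β ∧ ∃ z ∈ sX K, β z ≠ z

variable [CharP K 2]

theorem quad {a : K} (h : a ^ 4 = a) : a ^ 2 = a ∨ a ^ 2 = a + 1 := by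
  have two : (2 : K) = 0 := CharTwo.two_eq_zero
  have : (a ^ 2 - a) * (a ^ 2 - (a + 1)) = 0 := by linear_combination h + (a - a ^ 3) * two
  simpa only [mul_eq_zero, sub_eq_zero] using this

theorem lin_of_mul (h4 : ∀ a : K, a ^ 4 = a) {N : K → K} (h1 : ∀ a b, N (a + b) = N a + N b)
    (h2 : ∀ a b, N (a * b) * N 1 = N a * N b) (h0 : N 1 ≠ 0) {k : ℕ} (hk : Odd k) (h3 : ∀ a, N^[k] a = a) (a : K) :
    N a = N 1 * a := by
  have two : (2 : K) = 0 := CharTwo.two_eq_zero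
  have n0 : N 0 = 0 := by simpa using h1 0 0
  have c : ∀ b, b ^ 2 = b → N b = N 1 * b := fun b e => by
    rcases mul_eq_zero.1 (show b * (b - 1) = 0 by linear_combination e) with e | e
    · simp [e, n0]
    · simp [sub_eq_zero.1 e]
  have d : ∀ b, N b = N 1 * b ∨ N b = N 1 * b ^ 2 := fun b => (quad (h4 b)).elim (fun e => .inl (c b e)) fun e => by
    have e1 := h2 b b
    rw [← sq, e, h1] at e1
    have : (N b - N 1 * b) * (N b - N 1 * b ^ 2) = 0 := by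
      linear_combination -e1 - N 1 * (N b - N 1 * (b + 1)) * e + (N 1 ^ 2 * (b + 1) - N 1 * N b * b) * two
    simpa only [mul_eq_zero, sub_eq_zero] using this
  by_contra n
  have e1 := (d a).resolve_left n
  have e2 := (quad (h4 a)).resolve_left (mt (c a) n)
  have e3 : ∀ b, N b = N 1 * b ^ 2 := fun b => (quad (h4 b)).elim (fun e => by rw [e, c b e]) fun e => by
    rcases mul_eq_zero.1 (show (b - a) * (b - (a + 1)) = 0 by
      linear_combination e + e2 + (a + 1 - a * b) * two) with f | f <;> rw [sub_eq_zero.1 f]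
    · exact e1
    · rw [h1, e1]; linear_combination -N 1 * a * two
  have e4 : Involutive N := fun b => by
    rw [e3, e3 b]
    exact mul_left_cancel₀ h0 (by linear_combination b ^ 4 * h4 (N 1) + N 1 * h4 b)
  simp only [e4.iterate_odd hk] at h3
  exact n (by rw [h3, h3, one_mul])

variable [Finite K] {E F : FusionSystem (⊤ : Subgroup (Sy K))}

namespace Std

variable (h : Std F)
include h

theorem kap (hβ : Mor F ⊤ β) (a1 : ∀ u ∈ sA K, u.y = 0 → (β u).y = 0) (a2 : ∀ u ∈ sB K, u.y = 0 → (β u).y = 0) :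
    ∃ l m : K, l ≠ 0 ∧ m ≠ 0 ∧ (∀ z ∈ sZ K, β z = dg l m z) ∧ ∀ s, (β s).w = m * s.w ∧ (β s).a = l * s.a := by
  have two : (2 : K) = 0 := CharTwo.two_eq_zero
  have i := hβ.iso_top.piso
  have mu : ∀ s t, β (s * t) = β s * β t := fun s t => i.mul trivial trivial
  obtain ⟨bA, bB⟩ := map_two h.sat hβ
  have A : ∀ x y w, (β ⟨x, y, w, 0⟩).a = 0 := fun x y w => bA _ rfl
  have B : ∀ x y a, (β ⟨x, y, 0, a⟩).w = 0 := fun x y a => mem_sB.1 (bB _ (mem_sB.2 rfl))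
  have Z : ∀ s, (β s).w = 0 → (β s).a = 0 → s.w = 0 ∧ s.a = 0 := fun s e1 e2 =>
    i.pinv_apply (mem_top s) ▸ map_sZ2 i.symm (z := β s) ⟨e1, e2⟩
  obtain ⟨N, hN⟩ : ∃ N : K → K, ∀ s, (β s).a = N s.a := ⟨fun a => (β ⟨0, 0, 0, a⟩).a, fun s => by
    rw [show s = ⟨s.x, s.y, s.w, 0⟩ * ⟨0, 0, 0, s.a⟩ by ext <;> simp, mu]; simp [A]⟩
  obtain ⟨M, hM⟩ : ∃ M : K → K, ∀ s, (β s).w = M s.w := ⟨fun w => (β ⟨0, 0, w, 0⟩).w, fun s => by
    rw [show s = ⟨s.x, s.y, 0, 0⟩ * ⟨0, 0, s.w, 0⟩ * ⟨0, 0, 0, s.a⟩ by ext <;> simp, mu, mu]; simp [B]⟩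
  have sp : ∀ x y, β ⟨x, y, 0, 0⟩ = β ⟨x, 0, 0, 0⟩ * β ⟨0, y, 0, 0⟩ := fun x y => by
    rw [← mu]; congr 1; ext <;> simp
  have cm : ∀ a w, (β ⟨a ^ 2 * w, 0, 0, 0⟩).x + (β ⟨0, a * w, 0, 0⟩).x = N a ^ 2 * M w ∧
      (β ⟨0, a * w, 0, 0⟩).y = N a * M w := fun a w => by
    have e := congrArg β (show (⟨0, 0, 0, a⟩ * ⟨0, 0, w, 0⟩ : Sy K) =
      ⟨a ^ 2 * w, a * w, 0, 0⟩ * (⟨0, 0, w, 0⟩ * ⟨0, 0, 0, a⟩) by ext <;> simp)
    rw [mu, mu, mu, sp] at e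
    have e1 := congrArg Sy.x e
    have e2 := congrArg Sy.y e
    simp only [Sy.mul_x, Sy.mul_y, Sy.mul_a, Sy.mul_w, A, B, two, a1 ⟨0, 0, w, 0⟩ rfl rfl, a1 ⟨_, 0, 0, 0⟩ rfl rfl,
      a2 ⟨0, 0, 0, a⟩ (mem_sB.2 rfl) rfl, hN ⟨0, 0, 0, a⟩, hM ⟨0, 0, w, 0⟩] at e1 e2
    exact ⟨by linear_combination -e1, by linear_combination -e2⟩
  have l0 : N 1 ≠ 0 := fun e => one_ne_zero (Z ⟨0, 0, 0, 1⟩ (B ..) ((hN _).trans e)).2
  have m0 : M 1 ≠ 0 := fun e => one_ne_zero (Z ⟨0, 0, 1, 0⟩ ((hM _).trans e) (A ..)).1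
  have e1 : ∀ w, N 1 * M w = N w * M 1 := fun w => by rw [← (cm 1 w).2, ← (cm w 1).2, mul_comm]
  obtain ⟨k, k1, s, -, k2⟩ := exists_pow_inn h.sat hβ
  have e2 := lin_of_mul h.h4 (N := N) (fun a b => by
    have := congrArg Sy.a (mu ⟨0, 0, 0, a⟩ ⟨0, 0, 0, b⟩)
    simpa only [hN, Sy.mul_a] using this) (fun a b => mul_right_cancel₀ m0 (by
      have := (cm (a * b) 1).2
      rw [mul_one, (cm a b).2] at this
      linear_combination -N 1 * this + N a * e1 b)) l0 (Nat.not_even_iff_odd.1 fun e => k1 e.two_dvd) fun a => by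
    have : ∀ (j : ℕ) (s : Sy K), (β^[j] s).a = N^[j] s.a := fun j s => by
      induction j with
      | zero => rfl
      | succ n ih => rw [iterate_succ_apply', iterate_succ_apply', hN, ih]
    rw [← this k ⟨0, 0, 0, a⟩, k2 _ trivial, Sy.cj_a]
  have e3 : ∀ w, M w = M 1 * w := fun w => mul_left_cancel₀ l0 (by rw [e1, e2 w]; ring)
  have e4 : ∀ x y, x ≠ 0 → y ≠ 0 → (β ⟨x, 0, 0, 0⟩).x + (β ⟨0, y, 0, 0⟩).x = N 1 ^ 2 * M 1 * x := fun x y x0 y0 => by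
    have := (cm (x / y) (y ^ 2 / x)).1
    rw [show (x / y) ^ 2 * (y ^ 2 / x) = x by field_simp, show x / y * (y ^ 2 / x) = y by field_simp, e2, e3] at this
    rw [this]; field_simp
  have e0 : β ⟨0, 0, 0, 0⟩ = 1 := i.mul.map_one
  have e5 : (β ⟨0, 1, 0, 0⟩).x = 0 := by
    by_cases c : ∀ b : K, b ^ 2 = b
    · have d : ∀ b : K, b ≠ 0 → b = 1 := fun b e => mul_left_cancel₀ e (by rw [← sq, c, mul_one])
      have := e4 1 1 one_ne_zero one_ne_zero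
      rwa [d (N 1) l0, d (M 1) m0, d (β ⟨1, 0, 0, 0⟩).x fun e => one_ne_zero (congrArg Sy.x (i.inj trivial trivial
        ((Sy.ext e (a1 _ rfl rfl) (B ..) (A ..)).trans e0.symm))), one_pow, mul_one, mul_one, add_eq_left] at this
    · obtain ⟨b, c⟩ := not_forall.1 c
      have f1 := e4 1 1 one_ne_zero one_ne_zero
      have f2 := e4 1 b one_ne_zero (by rintro rfl; simp at c)
      have f3 := e4 1 (b + 1) one_ne_zero fun e => c (by linear_combination b * e - b * two)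
      have f4 := congrArg Sy.x (mu ⟨0, b, 0, 0⟩ ⟨0, 1, 0, 0⟩)
      rw [show (⟨0, b, 0, 0⟩ * ⟨0, 1, 0, 0⟩ : Sy K) = ⟨0, b + 1, 0, 0⟩ by ext <;> simp] at f4
      simp only [Sy.mul_x, A, B, two] at f4
      linear_combination f3 - f2 - f4
  have e6 : ∀ x, (β ⟨x, 0, 0, 0⟩).x = N 1 ^ 2 * M 1 * x := fun x => by
    by_cases x0 : x = 0
    · simp [x0, e0]
    · rw [← e4 x 1 x0 one_ne_zero, e5, add_zero]
  have e7 : ∀ y, (β ⟨0, y, 0, 0⟩).x = 0 := fun y => by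
    by_cases y0 : y = 0
    · simp [y0, e0]
    · simpa [e6] using e4 1 y one_ne_zero y0
  refine ⟨N 1, M 1, l0, m0, fun z hz => ?_, fun s => ⟨by rw [hM, e3], by rw [hN, e2]⟩⟩
  have e8 := (cm 1 z.y).2
  rw [one_mul, e3, ← mul_assoc] at e8
  rw [show z = ⟨z.x, z.y, 0, 0⟩ from Sy.ext rfl rfl hz.1 hz.2, sp]
  ext <;> simp [dg, A, B, e6, e7, e8, a1 ⟨_, 0, 0, 0⟩ rfl rfl]

theorem extA (hγ : Mor F (sA K) γ) (h1 : ∀ x ∈ sA K, γ x ∈ sA K) (h2 : ∀ x ∈ sZ K, γ x ∈ sZ K) :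
    ∃ g, Mor F ⊤ g ∧ (∀ x ∈ sA K, g x = γ x) ∧ ∀ u ∈ sB K, u.y = 0 → (g u).y = 0 := by
  obtain ⟨g, g1, g2⟩ := ch_sA.ext h.toAx hγ h1 h2
  obtain ⟨s, s1, s2⟩ := (ch_sB h.h4).adj h.toAx h.m2 (fun x _ => n2_mem x) (fun _ _ => rfl) g1 (map_two h.sat g1).2
  exact ⟨_, g1.cj_comp (mem_top s), fun x hx => by
    rw [comp_apply, cj_apply, g2 x hx, sA_comm s1 (h1 x hx), mul_inv_cancel_right], s2⟩

theorem extB (hγ : Mor F (sB K) γ) (h1 : ∀ x ∈ sB K, γ x ∈ sB K) (h2 : ∀ x ∈ sZ K, γ x ∈ sZ K) :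
    ∃ g, Mor F ⊤ g ∧ (∀ x ∈ sB K, g x = γ x) ∧ ∀ u ∈ sA K, u.y = 0 → (g u).y = 0 := by
  obtain ⟨g, g1, g2⟩ := (ch_sB h.h4).ext h.toAx hγ h1 h2
  obtain ⟨s, s1, s2⟩ := ch_sA.adj h.toAx h.m1 (fun x _ => n1_mem x) (fun _ _ => rfl) g1 (map_two h.sat g1).1
  exact ⟨_, g1.cj_comp (mem_top s), fun x hx => by
    rw [comp_apply, cj_apply, g2 x hx, sB_comm s1 (h1 x hx), mul_inv_cancel_right], s2⟩

theorem full (hβ : Mor F ⊤ β) (a1 : ∀ u ∈ sA K, u.y = 0 → (β u).y = 0) (a2 : ∀ u ∈ sB K, u.y = 0 → (β u).y = 0) :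
    ∃ l m : K, l ≠ 0 ∧ m ≠ 0 ∧ ∀ s, β s = dg l m s := by
  obtain ⟨l, m, l0, m0, b1, b2⟩ := h.kap hβ a1 a2
  obtain ⟨bA, bB⟩ := map_two h.sat hβ
  have k1 : ∀ w, (β ⟨0, 0, w, 0⟩).x = 0 := fun w => by
    obtain ⟨g, g1, g2, g3⟩ := h.extA ((h.m1.comp hβ fun _ _ => trivial).comp h.m1 fun x _ => bA _ (n1_mem x))
      (fun _ _ => n1_mem _) fun x hx => ⟨a1 _ (n1_mem x) hx.1, rfl⟩
    obtain ⟨_, _, -, -, c, -⟩ := h.kap g1 (fun u hu e => by rw [g2 u hu]; exact (b2 _).1.trans (by simp [n1, e])) g3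
    have := congrArg Sy.x (c ⟨0, w, 0, 0⟩ ⟨rfl, rfl⟩)
    rw [g2 _ rfl] at this
    simpa [dg, n1] using this
  have k2 : ∀ a, (β ⟨0, 0, 0, a⟩).x = 0 := fun a => by
    obtain ⟨g, g1, g2, g3⟩ := h.extB ((h.m2.comp hβ fun _ _ => trivial).comp h.m2 fun x _ => bB _ (n2_mem x))
      (fun _ _ => n2_mem _) fun x hx => ⟨rfl, a2 _ (n2_mem x) hx.2⟩
    obtain ⟨_, _, -, -, c, -⟩ := h.kap g1 g3 fun u hu e => by rw [g2 u hu]; exact (b2 _).2.trans (by simp [n2, e])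
    have := congrArg Sy.x (c ⟨0, a, 0, 0⟩ ⟨rfl, rfl⟩)
    rw [g2 _ (mem_sB.2 rfl)] at this
    simpa [dg, n2] using this
  refine ⟨l, m, l0, m0, fun s => ?_⟩
  rw [show β s = β ⟨s.x, s.y, 0, 0⟩ * β ⟨0, 0, s.w, 0⟩ * β ⟨0, 0, 0, s.a⟩ by
    rw [← hβ.mul trivial trivial, ← hβ.mul trivial trivial]; congr 1; ext <;> simp, b1 _ ⟨rfl, rfl⟩]
  ext <;> simp [dg, b2, k1, k2, a1 ⟨0, 0, _, 0⟩ rfl rfl, a2 ⟨0, 0, 0, _⟩ (mem_sB.2 rfl) rfl]

theorem diag (hl : l ≠ 0) : Mor F ⊤ (dg l l) := by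
  obtain ⟨e, α, hα, a⟩ := ch_sA.tor h.toAx h.m1 (fun x _ => n1_mem x) (fun _ _ => rfl) (inv_ne_zero hl)
  obtain ⟨g, g1, g2, g3⟩ := h.extA (mor_fn le_top hα) (fun _ => fn_mem α) fun x hx =>
    ⟨(congrArg (·.2.2) (a x hx.2)).trans (by simp [pA, hx.1]), fn_mem α hx.2⟩
  obtain ⟨l', m, -, -, b⟩ := h.full g1 (fun u hu u0 => by
    rw [g2 u hu]; simpa [pA, u0] using congrArg (·.2.1) (a u hu)) g3
  have c := a ⟨0, 1, 1, 0⟩ rfl
  rw [← g2 _ rfl, b] at c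
  simp only [pA, dg, Prod.mk.injEq, mul_one, inv_inv] at c
  obtain ⟨-, c1, rfl⟩ := c
  obtain rfl : l' = m := by field_simp at c1 e; exact mul_right_cancel₀ (pow_ne_zero 2 hl) (by linear_combination c1 + e)
  exact g1.congr fun x _ => (b x).symm

theorem top (hβ : Mor F ⊤ β) :
    ∃ s l m, l ≠ 0 ∧ m ≠ 0 ∧ Mor F ⊤ (dg l m) ∧ ∀ x, β x = s * dg l m x * s⁻¹ := by
  obtain ⟨s, -, s2⟩ := ch_sA.adj h.toAx h.m1 (fun x _ => n1_mem x) (fun _ _ => rfl) hβ (map_two h.sat hβ).1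
  have g1 := hβ.cj_comp (mem_top s)
  obtain ⟨t, t1, t2⟩ := (ch_sB h.h4).adj h.toAx h.m2 (fun x _ => n2_mem x) (fun _ _ => rfl) g1 (map_two h.sat g1).2
  have g2 := g1.cj_comp (mem_top t)
  obtain ⟨l, m, l0, m0, e⟩ := h.full g2 (fun u hu u0 => by
    rw [comp_apply, cj_apply, sA_comm t1 ((map_two h.sat g1).1 u hu), mul_inv_cancel_right]; exact s2 u hu u0) t2
  exact ⟨s⁻¹ * t⁻¹, l, m, l0, m0, g2.congr fun x _ => (e x).symm, fun x => by rw [← e]; simp [mul_assoc]⟩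

theorem all (hv : Mv F) (hl : l ≠ 0) (hm : m ≠ 0) : Mor F ⊤ (dg l m) := by
  have two : (2 : K) = 0 := CharTwo.two_eq_zero
  have cp : ∀ {a b c d : K}, Mor F ⊤ (dg a b) → Mor F ⊤ (dg c d) → Mor F ⊤ (dg (a * c) (b * d)) := fun h1 h2 =>
    (h2.comp h1 fun _ _ => trivial).congr fun x _ => (dg_dg ..).symm
  have c3 : ∀ a : K, a ≠ 0 → a ^ 3 = 1 := fun a e => mul_left_cancel₀ e (by linear_combination h.h4 a)
  obtain ⟨β, hβ, z, hz, n⟩ := hv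
  obtain ⟨s, a, b, a0, b0, e1, e2⟩ := h.top hβ
  have e3 := cp e1 (h.diag (inv_ne_zero a0))
  rw [mul_inv_cancel₀ a0] at e3
  have e4 : b * a⁻¹ ≠ 1 := fun e => n (by
    obtain rfl : b = a := by field_simp at e; exact e
    have : dg b b z = z := by
      ext <;> simp only [dg, hz.1, hz.2.1, hz.2.2, mul_zero]
      linear_combination z.x * c3 b b0
    rw [e2, this, sX_comm hz, mul_inv_cancel_right])
  have e5 := mul_ne_zero b0 (inv_ne_zero a0)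
  generalize b * a⁻¹ = c at e3 e4 e5
  have k : ∀ d : K, d ≠ 0 → d ≠ 1 → d ^ 2 = d + 1 := fun d d0 d1 => (quad (h.h4 d)).resolve_left fun e =>
    d1 (mul_left_cancel₀ d0 (by linear_combination e))
  have : Mor F ⊤ (dg 1 (m * l⁻¹)) := by
    have f0 := mul_ne_zero hm (inv_ne_zero hl)
    generalize m * l⁻¹ = d at f0
    by_cases d1 : d = 1
    · rw [d1]; exact h.diag one_ne_zero
    rcases mul_eq_zero.1 (show (d - c) * (d - c * c) = 0 by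
      linear_combination k d f0 d1 + (c + 1 - d) * k c e5 e4 + (c + 1 - c * d) * two) with f | f <;>
      rw [sub_eq_zero.1 f]
    · exact e3
    · simpa using cp e3 e3
  simpa [hl] using cp this (h.diag hl)

end Std

theorem Std.sub (hE : Std E) (hF : Std F) (hv : Mv E → Mv F) : E.IsSubsystemOf F := by
  have top : ∀ {β}, Mor E ⊤ β → Mor F ⊤ β := fun hβ => by
    obtain ⟨s, l, m, l0, m0, e1, e2⟩ := hE.top hβ
    refine (Mor.cj_comp ?_ (mem_top s)).congr fun x _ => e2 x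
    by_cases c : l = m
    · exact c ▸ hF.diag l0
    refine hF.all (hv ⟨_, e1, ⟨1, 0, 0, 0⟩, ⟨rfl, rfl, rfl⟩, fun e => c ?_⟩) l0 m0
    have := congrArg Sy.x e
    simp only [dg, mul_one] at this
    exact mul_left_cancel₀ (pow_ne_zero 2 l0) (mul_left_cancel₀ l0 (by linear_combination hE.h4 l - l * this))
  have loc : ∀ {P Q π b n}, Ch P Q π b → Mor E P n → Mor F P n → (∀ x ∈ P, n x ∈ P) →
      (∀ x ∈ P, π (n x) = ((π x).1, (π x).2.2, (π x).2.1)) → (∀ x ∈ P, n (n x) = x) →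
      ∀ α ∈ E.autGroup P, Mor F P (fn α) := fun {P Q π b n} c m1 m2 h1 h2 h3 α hα => by
    have a := mor_fn le_top hα
    rcases c.dec hE.toAx m1 h1 h2 hα with d | ⟨s, -, d⟩
    · obtain ⟨g, g1, g2⟩ := c.ext hE.toAx a (fun _ => fn_mem α) d
      exact ((top g1).mono le_top).congr fun x hx => (g2 x hx).symm
    · have k : ∀ x ∈ P, s * fn α x * s⁻¹ ∈ P := fun x hx => conj_mem_of_norm (norm_of_sZ c.le s) (fn_mem α hx)
      obtain ⟨g, g1, g2⟩ := c.ext hE.toAx ((a.cj_comp (mem_top s)).comp m1 k) (fun x hx => h1 _ (k x hx)) fun z hz =>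
        (c.hz _ (h1 _ (k z (c.le hz)))).1 (by rw [h2 _ (k z (c.le hz)), c.hy]; exact d z hz)
      refine ((((top g1).mono le_top).comp m2 fun x hx => g2 x hx ▸ h1 _ (k x hx)).cj_comp (mem_top s⁻¹)).congr
        fun x hx => ?_
      simp only [comp_apply, cj_apply, g2 x hx, h3 _ (k x hx)]
      group
  refine hE.sat.alperin_sub fun P hP α hα => ?_
  rcases hP with rfl | hP
  · exact top (mor_fn le_rfl hα)
  rcases ess_two hE.sat hP with rfl | rfl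
  · exact loc ch_sA hE.m1 hF.m1 (fun x _ => n1_mem x) (fun _ _ => rfl) (fun x hx => Sy.ext rfl rfl rfl hx.symm) α hα
  · exact loc (ch_sB hE.h4) hE.m2 hF.m2 (fun x _ => n2_mem x) (fun _ _ => rfl)
      (fun x hx => Sy.ext rfl rfl (mem_sB.1 hx).symm rfl) α hα

end CF.FusD
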