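import Cfsg.Agent.FusD.G

/-! Saturated fusion systems on a Sylow `2`-subgroup of `Sp₄(2ⁿ)`: reduction to two explicit groups. -/

set_option autoImplicit false
set_option linter.style.haveILetI false

namespace CF.FusD

open Cfsg Cfsg.FusionSystem Subgroup CF.Fus Function

variable {K : Type*} [Field K] {G : Type*} [Group G]

/-- a finite group whose fusion system is in standard form -/
structure GR (φ : Sy K →* G) : Prop where
  fin : Finite G
  inj : Injective φ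
  syl : SylIn 2 φ.range ⊤
  g1 : ∃ g, ∀ s ∈ sA K, g * φ s * g⁻¹ = φ (n1 s)
  g2 : ∃ g, ∀ s ∈ sB K, g * φ s * g⁻¹ = φ (n2 s)
  nx : ∀ g, ∀ z ∈ sX K, ∃ z' ∈ sX K, g * φ z * g⁻¹ = φ z'

/-- the two groups which are needed -/
structure Wit (K : Type*) [Field K] : Prop where
  cen : ∃ (G : Type) (_ : Group G) (φ : Sy K →* G), GR φ ∧ ∀ g, ∀ z ∈ sX K, g * φ z * g⁻¹ = φ z
  mov : ∀ b : K, b ≠ 0 → b ≠ 1 → ∃ (G : Type) (_ : Group G) (φ : Sy K →* G), GR φ ∧
    ∃ g, (∀ s, ∃ t, g * φ s * g⁻¹ = φ t) ∧ ∃ z ∈ sX K, g * φ z * g⁻¹ ≠ φ z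

variable [Finite K] {E F : FusionSystem (⊤ : Subgroup (Sy K))} {P : Subgroup (Sy K)}

theorem GR.std {φ : Sy K →* G} (h : GR φ) (h4 : ∀ a : K, a ^ 4 = a) :
    ∃ E : FusionSystem (⊤ : Subgroup (Sy K)), Std E ∧ Real E 2 φ ⊤ := by
  haveI := h.fin
  have i : PIso φ ⊤ φ.range := φ.range_eq_map ▸ piso_hom φ h.inj ⊤
  obtain ⟨E, e⟩ := exists_fiso (FG ⊤ φ.range le_top) i.symm
  have r := (e.symm' fun x hx => i.apply_pinv hx).toReal h.syl
  obtain ⟨g1, e1⟩ := h.g1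
  obtain ⟨g2, e2⟩ := h.g2
  refine ⟨E, ⟨⟨r.sat, sX K, sc_iff.2 ⟨le_top, fun R f hf x hx x1 => ?_⟩, sX_le, ⟨1, 0, 0, 0⟩, ⟨rfl, rfl, rfl⟩,
    fun e => one_ne_zero (congrArg Sy.x e), rfl⟩, h4, r.mor' le_top (mem_top g1) (fun _ _ => trivial) e1,
    r.mor' le_top (mem_top g2) (fun _ _ => trivial) e2⟩, r⟩
  obtain ⟨g, -, e⟩ := r.real hf
  obtain ⟨z, hz, e'⟩ := h.nx g x x1
  rwa [h.inj ((e x hx).symm.trans e')]

theorem mor_push {e : Sy K →* Sy K} (h : FIso F e E) (he : Involutive e) (hP : ∀ x ∈ P, e x ∈ P)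
    {f g : Sy K → Sy K} (hf : Mor F P f) (k : ∀ x ∈ P, g (e x) = e (f x)) : Mor E P g :=
  (h.symm' fun x _ => he x).mor_of le_top (fun _ _ => trivial) (hf.mono (img_le_iff.2 hP)) fun x hx => by
    rw [← he (f _), ← k _ (hP x hx), he]

theorem exists_tr (F : FusionSystem (⊤ : Subgroup (Sy K))) {e : Sy K →* Sy K} (he : Injective e) :
    ∃ E : FusionSystem (⊤ : Subgroup (Sy K)), FIso F e E :=
  exists_fiso F (piso_self_of_maps (mulOn_hom e ⊤) (fun _ _ _ _ h => he h) fun _ _ => trivial)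

theorem Ax.push (h : Ax F) {e : Sy K → Sy K} (i : FIso F e E) (he : ∀ z ∈ sZ K, e z = z) : Ax E := by
  obtain ⟨R, r1, r2, r3⟩ := h.ex
  have := i.sc r1
  rw [img_eq_self fun x hx => he x (r2 hx)] at this
  exact ⟨i.sat' h.sat, R, this, r2, r3⟩

variable [CharP K 2]

theorem Std.rz (h : Std F) (w : Wit K) : Rz F 2 := by
  by_cases c : Mv F
  · obtain ⟨b, b0, b1⟩ : ∃ b : K, b ≠ 0 ∧ b ≠ 1 := by
      by_contra! n
      obtain ⟨β, hβ, z, hz, e⟩ := c
      obtain ⟨s, l, m, l0, m0, -, e2⟩ := h.top hβ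
      refine e ?_
      rw [e2, n l l0, n m m0, show dg 1 1 z = z by ext <;> simp [dg], sX_comm hz, mul_inv_cancel_right]
    obtain ⟨G, _, φ, r, g, g1, z, hz, g2⟩ := w.mov b b0 b1
    obtain ⟨E, e1, e2⟩ := r.std h.h4
    choose f hf using g1
    have d : Mv E := ⟨f, e2.mor' le_rfl (mem_top g) (fun _ _ => trivial) fun x _ => hf x, z, hz, fun e => g2 (by
      rw [hf, e])⟩
    exact eq_of_sub (e1.sub h fun _ => c) (h.sub e1 fun _ => d) ▸ ⟨G, _, φ, e2⟩
  · obtain ⟨G, _, φ, r, g1⟩ := w.cen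
    obtain ⟨E, e1, e2⟩ := r.std h.h4
    have d : ¬ Mv E := fun ⟨β, hβ, z, hz, e⟩ => by
      obtain ⟨g, -, e'⟩ := e2.real hβ
      exact e (r.inj ((e' z trivial).symm.trans (g1 g z hz)))
    exact eq_of_sub (e1.sub h fun e => absurd e d) (h.sub e1 fun e => absurd e c) ▸ ⟨G, _, φ, e2⟩

theorem rz_not_sA (hF : Sat F 2) (h : ¬ F.IsEssential 2 (sA K)) : Rz F 2 := by
  refine rz_of_normal hF (hF.normal_of_ess fun P hP => ?_) CS_sB
  rcases hP with rfl | hP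
  · exact ⟨le_top, fun α hα => mem_stab_of_maps le_top (map_two hF (mor_fn le_rfl hα)).2⟩
  · obtain rfl := (ess_two hF hP).resolve_left fun e => h (e ▸ hP)
    exact ⟨le_rfl, fun α _ => mem_stab_of_maps le_rfl fun x => fn_mem α⟩

theorem rz_not_sB (hF : Sat F 2) (h : ¬ F.IsEssential 2 (sB K)) : Rz F 2 := by
  refine rz_of_normal hF (hF.normal_of_ess fun P hP => ?_) CS_sA
  rcases hP with rfl | hP
  · exact ⟨le_top, fun α hα => mem_stab_of_maps le_top (map_two hF (mor_fn le_rfl hα)).1⟩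
  · obtain rfl := (ess_two hF hP).resolve_right fun e => h (e ▸ hP)
    exact ⟨le_rfl, fun α _ => mem_stab_of_maps le_rfl fun x => fn_mem α⟩

/-- central automorphisms -/
def zeta (c : Sy K → K) (hc : ∀ s t, c (s * t) = c s + c t) (η φ : K → K) (h1 : ∀ a b, η (a + b) = η a + η b)
    (h2 : ∀ a b, φ (a + b) = φ a + φ b) : Sy K →* Sy K :=
  MonoidHom.mk' (fun s => ⟨s.x + η (c s), s.y + φ (c s), s.w, s.a⟩) fun s t => by
    ext <;> simp [hc, h1, h2, CharTwo.two_eq_zero] <;> ring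

theorem Ax.rz' (h : Ax F) (w : Wit K) (h4 : ∀ a : K, a ^ 4 = a) (m : Mor F (sA K) n1) : Rz F 2 := by
  refine by_contra fun c => ?_
  obtain ⟨α, hα, η, φ, a⟩ := (ch_sB h4).std h (by_contra fun n => c (rz_not_sB h.sat n))
  let e := zeta Sy.a Sy.mul_a (fun a => η a ^ 2) φ (fun a b => by rw [map_add, CharTwo.add_sq]) φ.map_add
  have e1 : ∀ s, e s = ⟨s.x + η s.a ^ 2, s.y + φ s.a, s.w, s.a⟩ := fun _ => rfl
  have e2 : Involutive e := fun s => by ext <;> simp [e1, add_assoc, CharTwo.add_self_eq_zero]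
  have e3 : ∀ s ∈ sA K, e s = s := fun s hs => by ext <;> simp [e1, mem_sA.1 hs]
  obtain ⟨E, i⟩ := exists_tr F e2.injective
  refine c ((Std.rz ⟨h.push i fun z hz => e3 z hz.2, h4, mor_push i e2 (fun _ h => h) m fun x hx => by
    rw [e3 x hx, e3 _ (n1_mem x)], mor_push i e2 (fun _ h => h) (mor_fn le_top hα) fun x hx => ?_⟩ w).of_fiso i)
  obtain ⟨a1, a2, a3⟩ := a x hx
  refine Sy.ext ?_ a2.symm (mem_sB.1 (fn_mem α hx)).symm a3.symm
  have := congrArg (· ^ 2) a1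
  simp only [pB, CharTwo.add_sq, ← pow_mul, h4] at this
  exact this.symm

theorem Ax.rz (h : Ax F) (w : (∀ a : K, a ^ 4 = a) → Wit K) : Rz F 2 := by
  refine by_contra fun c => ?_
  obtain ⟨α, hα, η, φ, a⟩ := ch_sA.std h (by_contra fun n => c (rz_not_sA h.sat n))
  let e := zeta Sy.w Sy.mul_w η φ η.map_add φ.map_add
  have e1 : ∀ s, e s = ⟨s.x + η s.w, s.y + φ s.w, s.w, s.a⟩ := fun _ => rfl
  have e2 : Involutive e := fun s => by ext <;> simp [e1, add_assoc, CharTwo.add_self_eq_zero]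
  obtain ⟨E, i⟩ := exists_tr F e2.injective
  have h' := h.push i fun z hz => by ext <;> simp [e1, hz.1]
  have m : Mor E (sA K) n1 := mor_push i e2 (fun _ h => h) (mor_fn le_top hα) fun x hx =>
    have ⟨a1, a2, a3⟩ := a x hx
    Sy.ext a1.symm a2.symm a3.symm (fn_mem α hx).symm
  have h4 : ∀ a : K, a ^ 4 = a := fun a => by
    by_cases a0 : a = 0
    · simp [a0]
    · rw [pow_succ, (ch_sA.tor h' m (fun x _ => n1_mem x) (fun _ _ => rfl) a0).1, one_mul]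
  exact c ((h'.rz' (w h4) h4 m).of_fiso i)

/-- the graph automorphism -/
def grA (K : Type*) [Field K] [CharP K 2] : Sy K →* Sy K :=
  MonoidHom.mk' (fun s => ⟨s.y ^ 2 + s.w ^ 2 * s.a ^ 2, s.x + s.w * s.a ^ 2, s.a ^ 2, s.w⟩) fun s t => by
    have two : (2 : K) = 0 := CharTwo.two_eq_zero
    ext <;> simp only [Sy.mul_x, Sy.mul_y, Sy.mul_w, Sy.mul_a, CharTwo.add_sq, two]
    · linear_combination s.a ^ 2 * t.w ^ 2 * two
    · linear_combination s.a ^ 2 * t.w * two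

theorem rz_two (hF : Sat F 2) (h0 : F.core ≠ ⊥) (w : (∀ a : K, a ^ 4 = a) → Wit K) : Rz F 2 := by
  refine by_contra fun c => ?_
  have hA := by_contra fun n => c (rz_not_sA hF n)
  have hB := by_contra fun n => c (rz_not_sB hF n)
  have hU := core_normal F
  have l : F.core ≤ sZ K := fun z hz =>
    ⟨mem_sB.1 (hF.normal_le_cr hU (hF.ess_iff.1 hB).1 (hF.ess_radical hB) hz),
      hF.normal_le_cr hU (hF.ess_iff.1 hA).1 (hF.ess_radical hA) hz⟩
  obtain ⟨⟨r, r1⟩, r0⟩ := ne_bot_iff_exists_ne_one.1 h0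
  have r2 : r ≠ 1 := fun e => r0 (Subtype.ext e)
  obtain ⟨ρ, k, e⟩ := cub_sA hF
  rcases k.axis (c := pA r) (ess_not_norm hF sZ_le_sA hA) (fun g hg => by
    rw [e g hg r (l r1).2]; exact (l (stab_maps (sc_stab (sc_of_normal hU) le_top hg) r1)).1) with a | a
  · have j : Injective (grA K) := (injective_iff_map_eq_one _).2 fun s e => by
      have e1 : s.w = 0 := congrArg Sy.a e
      have e2 : s.y ^ 2 + s.w ^ 2 * s.a ^ 2 = 0 := congrArg Sy.x e
      have e3 : s.x + s.w * s.a ^ 2 = 0 := congrArg Sy.y e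
      have e4 : s.a ^ 2 = 0 := congrArg Sy.w e
      ext <;> simp_all
    obtain ⟨E, i⟩ := exists_tr F j
    refine c ((Ax.rz ⟨i.sat' hF, _, i.sc (sc_of_normal hU), img_le_iff.2 fun z hz => ⟨?_, (l hz).1⟩, _,
      mem_img_of_mem r1, fun e => r2 (j (e.trans (map_one _).symm)), ?_⟩ w).of_fiso i)
    · change z.a ^ 2 = 0
      simp [(l hz).2]
    · change r.x + r.w * r.a ^ 2 = 0
      simpa [pA, (l r1).1] using a
  · exact c (Ax.rz ⟨hF, _, sc_of_normal hU, l, r, r1, r2, a⟩ w)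

end CF.FusD
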