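import Cfsg.Agent.FusD.H
import Cfsg.Agent.StdZ.HeL

/-! The groups `A₆ × 2`, `2²·L₃(4)` and `2²·L₃(4).3` realize the systems in standard form. -/

set_option autoImplicit false
set_option linter.style.haveILetI false

namespace CF.FusD

open Cfsg Subgroup CF.Fus Function Equiv

variable {K : Type*} [Field K] [Finite K] [CharP K 2] {G : Type*} [Group G]

theorem syl_range {φ : Sy K →* G} (h : Injective φ) {r : ℕ} (hr : Odd r) (e : Nat.card G = Nat.card K ^ 4 * r) :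
    SylIn 2 φ.range ⊤ := by
  haveI := Fintype.ofFinite K
  obtain ⟨n, -, hn⟩ := FiniteField.card K 2
  rw [← Nat.card_eq_fintype_card] at hn
  have a : Nat.card φ.range = Nat.card K ^ 4 := by rw [← Nat.card_congr (MonoidHom.ofInjective h).toEquiv, Sy.card]
  refine SylIn.of_not_dvd le_top (IsPGroup.of_card (by rw [a, hn, ← pow_mul])) ?_
  have b := card_mul_index φ.range
  rw [a, e] at b
  rw [relIndex_top_right, Nat.eq_of_mul_eq_mul_left (pow_pos Nat.card_pos 4) b]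
  exact fun d => Nat.not_even_iff_odd.2 hr (even_iff_two_dvd.2 d)

/-- the dihedral group in `A₆` -/
def ps (y w a : ZMod 2) : Perm (Fin 6) := (if y = 0 then 1 else swap 0 1 * swap 2 3) *
  (if w = 0 then 1 else swap 0 2 * swap 1 3) * (if a = 0 then 1 else swap 0 1 * swap 4 5)

theorem ps_mul : ∀ y w a y' w' a', ps (y + y' + a * w') (w + w') (a + a') = ps y w a * ps y' w' a' := by
  decide +kernel

theorem ps_mem : ∀ y w a, ps y w a ∈ alternatingGroup (Fin 6) := by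
  simp only [Perm.mem_alternatingGroup]; decide +kernel

theorem wit_two (h : ∀ b : K, b = 0 ∨ b = 1) : Wit K := by
  have two : (2 : K) = 0 := CharTwo.two_eq_zero
  refine ⟨?_, fun b h0 h1 => ((h b).elim h0 h1).elim⟩
  let f := (RingEquiv.ofBijective (ZMod.castHom (dvd_refl 2) K) ⟨RingHom.injective _, fun b =>
    (h b).elim (fun e => ⟨0, by simp [e]⟩) fun e => ⟨1, by simp [e]⟩⟩).symm
  have sq : ∀ a : K, a ^ 2 = a := fun a => (h a).elim (fun e => by simp [e]) fun e => by simp [e]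
  let φ : Sy K →* alternatingGroup (Fin 6) × Multiplicative (ZMod 2) := MonoidHom.mk' (fun s =>
    (⟨ps (f s.y) (f s.w) (f s.a), ps_mem ..⟩, Multiplicative.ofAdd (f (s.x + s.y + s.w + s.a)))) fun s t =>
      Prod.ext (Subtype.ext (by simp [ps_mul])) (by
        rw [Prod.snd_mul, ← ofAdd_add]
        refine congrArg Multiplicative.ofAdd ((congrArg f ?_).trans (map_add f _ _))
        simp only [Sy.mul_x, Sy.mul_y, Sy.mul_w, Sy.mul_a, sq]
        linear_combination (s.a * t.y + s.a * t.w) * two)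
  have e1 : ∀ s, ((φ s).1 : Perm (Fin 6)) = ps (f s.y) (f s.w) (f s.a) := fun _ => rfl
  have e2 : ∀ s, (φ s).2 = Multiplicative.ofAdd (f (s.x + s.y + s.w + s.a)) := fun _ => rfl
  have i : Injective φ := (injective_iff_map_eq_one _).2 fun s e => by
    obtain ⟨a1, a2, a3⟩ := (by decide +kernel : ∀ y w a, ps y w a = 1 → y = 0 ∧ w = 0 ∧ a = 0) _ _ _
      ((e1 s).symm.trans (by rw [e]; rfl))
    have a4 := e2 s
    rw [e, eq_comm, Prod.snd_one, ofAdd_eq_one] at a4
    rw [f.map_eq_zero_iff] at a1 a2 a3 a4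
    ext <;> simp_all
  have c : ∀ g, ∀ z ∈ sX K, g * φ z * g⁻¹ = φ z := fun g z hz => by
    have : (φ z).1 = 1 := Subtype.ext (by rw [e1, hz.1, hz.2.1, hz.2.2, map_zero]; rfl)
    exact Prod.ext (by simp [this]) (by simp)
  refine ⟨_, _, φ, ⟨inferInstance, i, syl_range i (r := 45) (by decide) ?_,
    ⟨(⟨swap 1 2 * swap 4 5, Perm.mem_alternatingGroup.2 (by decide)⟩, 1), fun s hs => Prod.ext (Subtype.ext ?_) ?_⟩,
    ⟨(⟨swap 2 4 * swap 3 5, Perm.mem_alternatingGroup.2 (by decide)⟩, 1), fun s hs => Prod.ext (Subtype.ext ?_) ?_⟩,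
    fun g z hz => ⟨z, hz, c g z hz⟩⟩, c⟩
  · rw [Nat.card_prod, nat_card_alternatingGroup, Nat.card_congr f.toEquiv]; simp [Nat.factorial]
  · simp only [Prod.fst_mul, Prod.fst_inv, coe_mul, coe_inv, e1, n1, mem_sA.1 hs, map_zero]
    exact (by decide +kernel : ∀ y w, swap 1 2 * swap 4 5 * ps y w 0 * (swap 1 2 * swap 4 5)⁻¹ = ps w y 0) _ _
  · simp only [Prod.snd_mul, Prod.snd_inv, e2, n1, mem_sA.1 hs, one_mul, inv_one, mul_one]
    congr 2; ring
  · simp only [Prod.fst_mul, Prod.fst_inv, coe_mul, coe_inv, e1, n2, mem_sB.1 hs, map_zero]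
    exact (by decide +kernel : ∀ y a, swap 2 4 * swap 3 5 * ps y 0 a * (swap 2 4 * swap 3 5)⁻¹ = ps a 0 y) _ _
  · simp only [Prod.snd_mul, Prod.snd_inv, e2, n2, mem_sB.1 hs, one_mul, inv_one, mul_one]
    congr 2; ring

omit [Finite K] [CharP K 2] in
theorem GR.mov {L : Type} [Group L] {φ : Sy K →* L} (h : GR φ) (x1 : ∀ z ∈ sX K, φ z ∈ center L)
    (x2 : ∀ a ∈ center L, ∃ z ∈ sX K, a = φ z) {δ : MulAut L} (o1 : Odd (orderOf δ)) (d1 : ∀ s, ∃ t, δ (φ s) = φ t)
    (d2 : ∃ z ∈ sX K, δ (φ z) ≠ φ z) : ∃ (G : Type) (_ : Group G) (φ : Sy K →* G), GR φ ∧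
      ∃ g, (∀ s, ∃ t, g * φ s * g⁻¹ = φ t) ∧ ∃ z ∈ sX K, g * φ z * g⁻¹ ≠ φ z := by
  haveI := h.fin
  have cj1 : ∀ (g : L ⋊[(zpowers δ).subtype] zpowers δ) a, g * .inl a * g⁻¹ =
      .inl (g.left * (g.right : MulAut L) a * g.left⁻¹) := fun g a => by
    ext <;> simp [mul_assoc]
  obtain ⟨g1, e1⟩ := h.g1
  obtain ⟨g2, e2⟩ := h.g2
  refine ⟨L ⋊[(zpowers δ).subtype] zpowers δ, _, SemidirectProduct.inl.comp φ,
    ⟨Finite.of_equiv _ SemidirectProduct.equivProd.symm, SemidirectProduct.inl_injective.comp h.inj, ?_,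
      ⟨.inl g1, fun s hs => ?_⟩, ⟨.inl g2, fun s hs => ?_⟩, fun g z hz => ?_⟩,
    .inr ⟨δ, mem_zpowers δ⟩, fun s => ?_, ?_⟩
  · rw [MonoidHom.range_comp]
    refine SylIn.of_not_dvd le_top (h.syl.pg.map _) ?_
    rw [relIndex_top_right, index_map_of_injective _ SemidirectProduct.inl_injective,
      SemidirectProduct.range_inl_eq_ker_rightHom, index_ker,
      MonoidHom.range_eq_top.2 SemidirectProduct.rightHom_surjective, card_top, Nat.card_zpowers,
      Nat.prime_two.dvd_mul, not_or, ← relIndex_top_right]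
    exact ⟨h.syl.not_dvd_relIndex, fun d => Nat.not_even_iff_odd.2 o1 (even_iff_two_dvd.2 d)⟩
  · simp only [MonoidHom.comp_apply, ← map_inv, ← map_mul, ← e1 s hs]
  · simp only [MonoidHom.comp_apply, ← map_inv, ← map_mul, ← e2 s hs]
  · have a := (characteristic_iff_le_comap.1 inferInstance (g.right : MulAut L)) (x1 z hz)
    obtain ⟨z', z1, z2⟩ := x2 _ a
    exact ⟨z', z1, by
      simp only [MonoidHom.comp_apply, cj1]
      exact congrArg _ (by rw [show (g.right : MulAut L) (φ z) = φ z' from z2, mem_center_iff.1 (x1 z' z1),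
        mul_inv_cancel_right])⟩
  · obtain ⟨t, e⟩ := d1 s
    exact ⟨t, by simp [cj1, e]⟩
  · obtain ⟨z, hz, e⟩ := d2
    exact ⟨z, hz, by simpa [cj1] using e⟩

open CF.StdZ.He CF.StdZ.He.F4

theorem card_F4 : Nat.card F4 = 4 :=
  letI : Fintype F4 := ⟨{o, i, w, b}, fun x => by cases x <;> decide⟩
  Nat.card_eq_fintype_card

theorem card_L0 : Nat.card L0 = 80640 := by
  obtain ⟨L, _, x, π, h, hs, hk, -, -⟩ := CF.Recog.ON.exists_pi0
  let π' : L0 →* L := QuotientGroup.lift N0 π fun a m => hk.ge (N0_le m)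
  have a : π'.ker = center L0 := by
    ext c
    obtain ⟨c, rfl⟩ := nn_sur c
    rw [nn_cen, ← hk]; rfl
  have c : Nat.card (center L0) = 4 := card_F4 ▸ (Nat.card_congr (Equiv.ofBijective
    (fun t => (⟨φ0 (vv t), vcen t⟩ : center L0)) ⟨fun s t e => congrArg PP.v (φ0_inj (congrArg Subtype.val e)),
      fun c => (cenL.1 c.2).imp fun _ e => Subtype.ext e.symm⟩)).symm
  rw [← π'.ker.card_mul_index, index_ker, MonoidHom.range_eq_top.2 fun c => (hs c).elim fun a t => ⟨nn a, t⟩,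
    card_top, h.card, a, c]

omit [Finite K] in
theorem exists_f4 (h4 : ∀ a : K, a ^ 4 = a) {c : K} (h0 : c ≠ 0) (h1 : c ≠ 1) : ∃ f : K ≃ F4, f 0 = o ∧
    (∀ s t, f (s + t) = f s + f t) ∧ ∀ s t, f (s * t) = f s * f t := by
  have two : (2 : K) = 0 := CharTwo.two_eq_zero
  have e := (quad (h4 c)).resolve_left fun e => h1 (mul_left_cancel₀ h0 (by linear_combination e))
  let g : F4 → K := fun | o => 0 | i => 1 | w => c | b => c + 1
  have g1 : ∀ s t, g (s + t) = g s + g t := fun s t => by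
    change g (F4.add s t) = _
    cases s <;> cases t <;> simp only [g, F4.add] <;> first | ring1 | linear_combination -two | linear_combination -c * two |
      linear_combination -(c + 1) * two
  have g2 : ∀ s t, g (s * t) = g s * g t := fun s t => by
    change g (F4.mul s t) = _
    cases s <;> cases t <;> simp only [g, F4.mul] <;> first | ring1 | linear_combination -e | linear_combination -e - c * two |
      linear_combination -e - (c + 1) * two
  have g3 : Injective g := fun s t d => by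
    have : ∀ u, g u = 0 → u = o := fun u d => by
      cases u
      exacts [rfl, absurd d one_ne_zero, absurd d h0, absurd (by linear_combination d - two : c = 1) h1]
    exact (by decide : ∀ s t : F4, s + t = o → s = t) s t (this _ (by rw [g1, d, CharTwo.add_self_eq_zero]))
  have g4 : Surjective g := fun a => by
    rcases quad (h4 a) with d | d
    · rcases mul_eq_zero.1 (show a * (a - 1) = 0 by linear_combination d) with d | d
      exacts [⟨o, d.symm⟩, ⟨i, (sub_eq_zero.1 d).symm⟩]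
    · rcases mul_eq_zero.1 (show (a - c) * (a - (c + 1)) = 0 by
        linear_combination d + e + (c + 1 - c * a) * two) with d | d
      exacts [⟨w, (sub_eq_zero.1 d).symm⟩, ⟨b, (sub_eq_zero.1 d).symm⟩]
  have k := Equiv.ofBijective_apply_symm_apply g ⟨g3, g4⟩
  exact ⟨(Equiv.ofBijective g ⟨g3, g4⟩).symm, g3 (k _), fun s t => g3 (by rw [g1, k, k, k]),
    fun s t => g3 (by rw [g2, k, k, k])⟩

theorem wit_four (h4 : ∀ a : K, a ^ 4 = a) {c : K} (h0 : c ≠ 0) (h1 : c ≠ 1) : Wit K := by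
  obtain ⟨f, f0, f1, f2⟩ := exists_f4 h4 h0 h1
  let ι : Sy K →* PP := MonoidHom.mk' (fun s => ⟨f s.a, f s.w, f s.y, F4.cj (f s.x)⟩) fun s t =>
    PP.ext (f1 ..) (f1 ..) (by simp only [Sy.mul_y, f1, f2]; rfl) (by
      simp only [Sy.mul_x, CharTwo.two_eq_zero, zero_mul, add_zero, f1, f2, sq]
      exact (by decide +kernel : ∀ x y a w, F4.cj (x + y + a * a * w) = F4.cj x + F4.cj y + a * F4.cj w) _ _ _ _)
  have e1 : ∀ s, ι s = ⟨f s.a, f s.w, f s.y, F4.cj (f s.x)⟩ := fun _ => rfl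
  have cc : ∀ t, F4.cj (F4.cj t) = t := by decide
  have i1 : Injective ι := fun s t e => by
    simp only [e1, PP.mk.injEq, EmbeddingLike.apply_eq_iff_eq] at e
    exact Sy.ext (f.injective (by rw [← cc (f _), e.2.2.2, cc])) e.2.2.1 e.2.1 e.1
  have i2 : Surjective ι := fun a => ⟨⟨f.symm (F4.cj a.v), f.symm a.u, f.symm a.y, f.symm a.x⟩, by simp [e1, cc]⟩
  have i3 : Injective (φ0.comp ι) := φ0_inj.comp i1
  have k4 : Nat.card K = 4 := (Nat.card_congr f).trans card_F4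
  have x1 : ∀ z ∈ sX K, φ0 (ι z) ∈ center L0 := fun z hz => by
    rw [e1, hz.1, hz.2.1, hz.2.2, f0]; exact vcen _
  have x2 : ∀ a ∈ center L0, ∃ z ∈ sX K, a = φ0 (ι z) := fun a ha => by
    obtain ⟨t, rfl⟩ := cenL.1 ha
    exact ⟨⟨f.symm (F4.cj t), 0, 0, 0⟩, ⟨rfl, rfl, rfl⟩, congrArg φ0 (by simp [e1, f0, cc, vv])⟩
  obtain ⟨k, hk⟩ := x1_φ
  have y2 : ∀ s ∈ sB K, k * φ0 (ι s) * k⁻¹ = φ0 (ι (n2 s)) := fun s hs => by
    simp only [e1, n2, mem_sB.1 hs, f0, hk]
  have y1 : ∀ s ∈ sA K, bb (1, 1) k * φ0 (ι s) * (bb (1, 1) k)⁻¹ = φ0 (ι (n1 s)) := fun s hs => by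
    have d : ∀ y u v, (⟨o, y, u, v⟩ : PP) = gr ⟨y, o, u, F4.cj v⟩ := by decide +kernel
    simp only [e1, n1, mem_sA.1 hs, f0]
    rw [d, d (f s.y), ← b11, ← b11, ← map_inv, ← map_mul, ← map_mul, hk]
  have cen : ∀ g, ∀ z ∈ sX K, g * φ0 (ι z) * g⁻¹ = φ0 (ι z) := fun g z hz => by
    rw [mem_center_iff.1 (x1 z hz), mul_inv_cancel_right]
  have gr0 : GR (φ0.comp ι) := ⟨inferInstance, i3, syl_range i3 (r := 315) (by decide) (by rw [card_L0, k4]; rfl),
    ⟨_, y1⟩, ⟨_, y2⟩, fun g z hz => ⟨z, hz, cen g z hz⟩⟩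
  refine ⟨⟨L0, _, _, gr0, cen⟩, fun _ _ _ => ?_⟩
  obtain ⟨γ, hγ⟩ := exists_diag (l := i) (m := w) (by decide) (by decide)
  obtain ⟨n, r, r1, r2⟩ := Nat.exists_eq_pow_mul_and_not_dvd (orderOf_pos γ).ne' 2 (by decide)
  have o1 : orderOf (γ ^ 2 ^ n) = r := by
    rw [orderOf_pow_of_dvd (by positivity) (r2 ▸ dvd_mul_right _ _), r2, Nat.mul_div_cancel_left _ (by positivity)]
  obtain ⟨m, m1, m2⟩ : ∃ m, (m = w ∨ m = b) ∧ ∀ a, (γ ^ 2 ^ n) (φ0 a) = φ0 (dl i m a) := by
    clear r2 o1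
    induction n with
    | zero => exact ⟨w, .inl rfl, by rwa [pow_zero, pow_one]⟩
    | succ n ih =>
      obtain ⟨m, m1, m2⟩ := ih
      refine ⟨m * m, by rcases m1 with rfl | rfl <;> decide, fun a => ?_⟩
      rw [pow_succ, pow_mul, sq, MulAut.mul_apply, m2, m2]
      exact congrArg φ0 ((by decide +kernel : ∀ m a, dl i m (dl i m a) = dl i (m * m) a) m a)
  refine gr0.mov x1 x2 (δ := γ ^ 2 ^ n) (o1 ▸ Nat.not_even_iff_odd.1 fun e => r1 e.two_dvd)
    (fun s => (i2 (dl i m (ι s))).imp fun t e => (m2 _).trans (congrArg φ0 e.symm))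
    ⟨⟨f.symm i, 0, 0, 0⟩, ⟨rfl, rfl, rfl⟩, fun e => ?_⟩
  have := congrArg PP.v (φ0_inj ((m2 _).symm.trans e))
  simp only [e1, f0, Equiv.apply_symm_apply] at this
  rcases m1 with rfl | rfl <;> exact absurd this (by decide)

theorem wit (h4 : ∀ a : K, a ^ 4 = a) : Wit K := by
  by_cases h : ∀ b : K, b = 0 ∨ b = 1
  · exact wit_two h
  · push Not at h
    obtain ⟨c, h0, h1⟩ := h
    exact wit_four h4 h0 h1

end CF.FusD
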